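import Cfsg.Agent.R2.Spec.X1.E6.I9.Orth

/-!
# `E₆(q)`, `²E₆(q)`, rows `PΩ^±_{2k}(u)`, `k ≥ 4` : the rows (helper977, S3480, S3481)
-/

set_option autoImplicit false

namespace Cfsg.Agent.R2.Spec.X1.E6.I9

open Cfsg Cfsg.Agent.R2.Spec.X1.E6 Cfsg.Agent.H72.F4I.Iso Cfsg.Agent.H182.Orth Cfsg.Agent.H182.Sign
open Cfsg.Agent.H403.Classify
open Cfsg.Agent.LieClassical.OrthCore Cfsg.Agent.LieClassical.OrthForms

variable {D : Dat} {F : Type*} [Field F] [Fintype F] {ι : Type} [Fintype ι] [DecidableEq ι]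
  {Q : QuadraticForm F (ι → F)} {k : ℕ}

/-- divisibility with integers -/
theorem cast_dvd {M A : ℕ} {B : ℤ} (h : M ∣ A) (hB : (A : ℤ) = B) : (M : ℤ) ∣ B := by
  rw [← hB]
  exact Int.natCast_dvd_natCast.2 h

theorem odd_of_dvd {a : ℤ} (h : (D.m : ℤ) ∣ 2 * a) : (D.m : ℤ) ∣ a := by
  have h1 : IsCoprime (D.m : ℤ) 2 := by
    have := Nat.isCoprime_iff_coprime.2 ((Nat.Prime.coprime_iff_not_dvd Nat.prime_two).2 D.m_odd).symm
    exact_mod_cast this
  exact h1.dvd_of_dvd_mul_left h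

theorem plus (hQ : Sg Q k 1) (hk : 4 ≤ k) {c : ℕ}
    (hcard : c * Nat.card (POmega F ⇑Q) = Nat.card F ^ (k * (k - 1)) * (Nat.card F ^ k - 1) *
      ∏ i ∈ Finset.range (k - 1), (Nat.card F ^ (2 * (i + 1)) - 1)) (h : Sit D (POmega F ⇑Q)) : False := by
  have hrow := plus_row hQ hk hcard (isoN h)
  have hred := t_red hQ hk h (X := Nat.card F ^ k - 1) (hcard ▸ dvd_mul_left _ _)
  have hev := fun {t j : ℕ} (ht : t.Prime) (htm : t ∣ D.m) (hj : Even j) (hj1 : 1 ≤ j) (hjk : j ≤ k) =>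
    t_even hQ hk h ht htm hj hj1 hjk
  have hdiv := fun {N : ℕ} (hN : Elt F k 1 N) {s : ℕ} (hs : s.Prime) (hsn : s ∣ D.n) (hsN : s ∣ N) =>
    exists_div hQ hk h hN hs hsn hsN
  have helt : Elt F k 1 (Nat.card F ^ k - 1) := elt_tor_plus (by omega) dvd_rfl
  have hsm : ∀ {t : ℕ}, t.Prime → t ∣ D.m → ¬ t ∣ Nat.card F ^ 2 - 1 := fun ht htm => hev ht htm even_two (by norm_num) (by omega)
  have hu2 : 2 ≤ Nat.card F := Finite.one_lt_card
  obtain ⟨u, hu⟩ : ∃ u, Nat.card F = u := ⟨_, rfl⟩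
  rw [hu] at hrow hred hev hsm hu2 helt
  have hone : ∀ j, 1 ≤ u ^ j := fun j => Nat.one_le_pow _ _ (by omega)
  have hu1 : ∀ {t : ℕ}, t.Prime → t ∣ D.m → ¬ t ∣ u - 1 := fun ht htm hd =>
    hsm ht htm (hd.trans (by rw [show u ^ 2 - 1 = (u + 1) * (u - 1) by
      have := sq_fac u 1
      rwa [pow_one, mul_one] at this]; exact dvd_mul_left _ _))
  rw [sq_fac] at hred
  obtain ⟨s₀, hs₀, hs₀n⟩ := (isoN h).exists_prime
  have e1 : u ^ k = u * u ^ (k - 1) := by rw [← pow_succ', Nat.sub_add_cancel (by omega)]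
  rcases hrow with ⟨hko, rfl, hn, -⟩ | ⟨hko, huo, hn, -⟩ | ⟨hke, rfl, hn, -⟩ | ⟨hke, rfl, hn, -⟩
  · -- `u = 2`, `k` odd
    have hk1 : Even (k - 1) := by
      obtain ⟨l, hl⟩ := hko
      exact ⟨l, by omega⟩
    have h1 : D.m ∣ 2 ^ (k - 1) + 1 := by
      rw [← hn] at hred
      have h2 := dvd_of_primes hred fun t ht htm => not_dvd_n ht htm
      rw [mul_comm] at h2
      exact dvd_of_primes h2 fun t ht htm => hev ht htm hk1 (by omega) (by omega)
    refine dead_AB (D := D) (A := 1) (B := 3) (by norm_num) (by norm_num) (by norm_num) (by decide) ?_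
    have h2 : D.m ∣ 2 * (2 ^ (k - 1) + 1) := h1.mul_left 2
    refine cast_dvd h2 ?_
    have h3 := hone k
    have h4 : 2 * (2 ^ (k - 1) + 1) = D.n + 3 := by omega
    rw [h4]
    push_cast
    ring
  · -- `u`, `k` odd
    have hk1 : Even (k - 1) := by
      obtain ⟨l, hl⟩ := hko
      exact ⟨l, by omega⟩
    have h1 : D.m ∣ u ^ (k - 1) + 1 := by
      rw [← hn] at hred
      have h2 := dvd_of_primes hred fun t ht htm => not_mul ht (not_dvd_n ht htm) (hu1 ht htm)
      rw [mul_comm] at h2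
      exact dvd_of_primes h2 fun t ht htm => hev ht htm hk1 (by omega) (by omega)
    -- `u - 1 ∣ 4`
    have h2 : u ^ k - 1 ∣ 4 * D.n := hdiv helt hs₀ hs₀n (by rw [← hn]; exact hs₀n.mul_right _)
    rw [← hn, mul_comm] at h2
    have h3 : u - 1 ∣ 4 := Nat.dvd_of_mul_dvd_mul_right D.pos_n h2
    have h4 := Nat.le_of_dvd (by norm_num) h3
    have h6 : (D.m : ℤ) ∣ D.n * (u - 1) + (u + 1) := by
      refine cast_dvd (h1.mul_left u) ?_
      have h5 : D.n * (u - 1) + 1 = u ^ k := by have := hone k; omega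
      have h7 : ((D.n * (u - 1) + 1 : ℕ) : ℤ) = ((u ^ k : ℕ) : ℤ) := by rw [h5]
      rw [e1] at h7
      push_cast [show 1 ≤ u by omega] at h7 ⊢
      linear_combination -h7
    rcases (by
      obtain ⟨l, hl⟩ := huo
      omega : u = 3 ∨ u = 5) with rfl | rfl
    · refine dead_AB (D := D) (A := 1) (B := 2) (by norm_num) (by norm_num) (by norm_num) (by decide) ?_
      apply odd_of_dvd
      have : (2 : ℤ) * (1 * D.n + 2) = D.n * ((3 : ℕ) - 1) + ((3 : ℕ) + 1) := by push_cast; ring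
      rw [this]
      exact h6
    · refine dead_AB (D := D) (A := 2) (B := 3) (by norm_num) (by norm_num) (by norm_num) (by decide) ?_
      apply odd_of_dvd
      have : (2 : ℤ) * (2 * D.n + 3) = D.n * ((5 : ℕ) - 1) + ((5 : ℕ) + 1) := by push_cast; ring
      rw [this]
      exact h6
  · -- `u = 2`, `k` even
    have h1 : D.m ∣ (2 ^ (k - 1) + 1) * (2 ^ (k - 1) - 1) :=
      dvd_of_primes hred fun t ht htm => hev ht htm hke (by omega) le_rfl
    rw [← hn, mul_comm] at h1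
    have h2 := dvd_of_primes h1 fun t ht htm => not_dvd_n ht htm
    refine dead_AB (D := D) (A := 1) (B := 2) (by norm_num) (by norm_num) (by norm_num) (by decide) ?_
    refine cast_dvd h2 ?_
    have h3 := hone (k - 1)
    have h4 : 2 ^ (k - 1) + 1 = D.n + 2 := by omega
    rw [h4]
    push_cast
    ring
  · -- `u = 3`, `k` even
    have h1 : D.m ∣ (3 ^ (k - 1) + 1) * (3 ^ (k - 1) - 1) :=
      dvd_of_primes hred fun t ht htm => hev ht htm hke (by omega) le_rfl
    rw [← hn, mul_comm] at h1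
    have h2 := dvd_of_primes h1 fun t ht htm => not_mul ht (fun h5 => t_ne_two ht htm
      ((Nat.prime_dvd_prime_iff_eq ht Nat.prime_two).1 h5)) (not_dvd_n ht htm)
    refine dead_AB (D := D) (A := 1) (B := 1) (by norm_num) (by norm_num) (by norm_num) (by decide) ?_
    apply odd_of_dvd
    refine cast_dvd h2 ?_
    have h3 := hone (k - 1)
    have h4 : 3 ^ (k - 1) + 1 = 2 * D.n + 2 := by omega
    rw [h4]
    push_cast
    ring

theorem minus (hQ : Sg Q k (-1)) (hk : 4 ≤ k) {c : ℕ}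
    (hcard : c * Nat.card (POmega F ⇑Q) = Nat.card F ^ (k * (k - 1)) * (Nat.card F ^ k + 1) *
      ∏ i ∈ Finset.range (k - 1), (Nat.card F ^ (2 * (i + 1)) - 1)) (h : Sit D (POmega F ⇑Q)) : False := by
  have hfin : Finite (Cfsg.isometryGroup F ⇑Q) := inferInstance
  have hrow := minus_row hQ hk hcard (isoN h)
  have hred := t_red hQ hk h (X := Nat.card F ^ k + 1) (hcard ▸ dvd_mul_left _ _)
  have hev := fun {t j : ℕ} (ht : t.Prime) (htm : t ∣ D.m) (hj : Even j) (hj1 : 1 ≤ j) (hjk : j ≤ k) =>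
    t_even hQ hk h ht htm hj hj1 hjk
  have hdiv := fun {N : ℕ} (hN : Elt F k (-1) N) {s : ℕ} (hs : s.Prime) (hsn : s ∣ D.n) (hsN : s ∣ N) =>
    exists_div hQ hk h hN hs hsn hsN
  have helt : Elt F k (-1) (Nat.card F ^ k + 1) := elt_tor_minus (by omega) dvd_rfl
  have hsm : ∀ {t : ℕ}, t.Prime → t ∣ D.m → ¬ t ∣ Nat.card F ^ 2 - 1 := fun ht htm => hev ht htm even_two (by norm_num) (by omega)
  have hu2 : 2 ≤ Nat.card F := Finite.one_lt_card
  -- elements
  have hB : ∀ N : ℕ, Odd N → N ∣ Nat.card F ^ (k - 1) + 1 → ∃ x : POmega F ⇑Q, orderOf x = N := by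
    intro N hN hd
    have h1 := (elt_tor_minus (F := F) (k := k - 1) (by omega) hd).extend (m := k) (by omega) (Or.inr rfl)
      (δ := -1) (Or.inr rfl)
    exact exists_elt hQ hk (h1.odd hN (by omega)) (by rw [odd_div_gcd hN])
  have hC : ∀ N : ℕ, Odd N → N ∣ Nat.card F ^ (k - 1) - 1 → ∃ x : POmega F ⇑Q, orderOf x = N := by
    intro N hN hd
    have h1 := (elt_tor_plus (F := F) (k := k - 1) (by omega) hd).extend (m := k) (by omega) (Or.inl rfl)
      (δ := -1) (Or.inr rfl)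
    exact exists_elt hQ hk (h1.odd hN (by omega)) (by rw [odd_div_gcd hN])
  have h3C : Nat.card F = 3 → Odd (k - 1) → ∃ x : POmega F ⇑Q, orderOf x = 3 ^ (k - 1) - 1 := by
    intro h3 hk1
    have h8 : 3 ^ (k - 1) % 4 = 3 := by
      obtain ⟨l, hl⟩ := hk1
      rw [hl, pow_succ, pow_mul, Nat.mul_mod, Nat.pow_mod]
      norm_num
    obtain ⟨w, hw⟩ : ∃ w, 3 ^ (k - 1) = w := ⟨_, rfl⟩
    rw [hw] at h8
    obtain ⟨j, hj⟩ : ∃ j, 3 ^ (k - 1) - 1 = 2 * j := ⟨(w - 1) / 2, by rw [hw]; omega⟩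
    have hjo : Odd j := by rw [Nat.odd_iff]; rw [hw] at hj; omega
    have hco : Nat.Coprime j 4 := (Nat.Coprime.pow_right 2 (Nat.coprime_two_right.2 hjo) : Nat.Coprime j (2 ^ 2))
    have h1 : EltP F ((k - 1) + 1) (1 * -1) (Nat.lcm j 4) :=
      ((elt_tor_plus (F := F) (k := k - 1) (N := j) (by omega) (by rw [h3, hj]; exact dvd_mul_left _ _)).odd
        hjo (by omega)).prod (elt_ell (by rw [h3]))
    rw [show (k - 1) + 1 = k by omega, one_mul, hco.lcm_eq_mul] at h1
    refine exists_elt hQ hk h1 ?_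
    rw [hj, show j * 4 = 2 * (2 * j) by ring, Nat.gcd_eq_right (dvd_mul_right 2 _),
      Nat.mul_div_cancel_left _ (by norm_num)]
  obtain ⟨u, hu⟩ : ∃ u, Nat.card F = u := ⟨_, rfl⟩
  rw [hu] at hrow hred hev hsm hu2 helt hB hC h3C
  have hone : ∀ j, 1 ≤ u ^ j := fun j => Nat.one_le_pow _ _ (by omega)
  have hadd : ∀ {t : ℕ}, t.Prime → t ∣ D.m → ¬ t ∣ u + 1 := fun ht htm hd =>
    hsm ht htm (hd.trans (by rw [show u ^ 2 - 1 = (u + 1) * (u - 1) by
      have := sq_fac u 1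
      rwa [pow_one, mul_one] at this]; exact dvd_mul_right _ _))
  rw [sq_fac] at hred
  obtain ⟨s₀, hs₀, hs₀n⟩ := (isoN h).exists_prime
  have e1 : u ^ k = u * u ^ (k - 1) := by rw [← pow_succ', Nat.sub_add_cancel (by omega)]
  rcases hrow with ⟨hke, hue, hn, -⟩ | ⟨hke, huo, hn, x, hx⟩ | ⟨hko, huo, hn, -⟩ | ⟨hko, rfl, hn, -⟩ |
    ⟨rfl, A, B, a, b, oA, oB, eA, eB, hpar, hAB⟩
  · -- `u` even, `k` even
    rw [← hn] at hred
    have hred2 := dvd_of_primes hred fun t ht htm => not_dvd_n ht htm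
    have oC : Odd (u ^ (k - 1) - 1) := by
      obtain ⟨l, hl⟩ := (Nat.even_pow.2 ⟨hue, by omega⟩ : Even (u ^ (k - 1)))
      have h4 := hone (k - 1)
      exact ⟨l - 1, by omega⟩
    have oB : Odd (u ^ (k - 1) + 1) := (Nat.even_pow.2 ⟨hue, by omega⟩ : Even (u ^ (k - 1))).add_one
    have hkill : ∀ δ : ℤ, (δ = 1 ∨ δ = -1) → (D.m : ℤ) ∣ (u : ℤ) ^ (k - 1) + δ → False := by
      intro δ hδ h1
      refine dead_pow (D := D) (g := 1) (u := u) (k := k) (B := δ * u - 1) (Or.inl rfl) hu2 hk (Or.inl (by rw [one_mul, hn])) ?_ ?_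
      · rcases hδ with rfl | rfl
        · rw [abs_le]; constructor <;> linarith
        · rw [abs_le]; constructor <;> linarith
      · have h2 : ((1 : ℕ) : ℤ) * D.n + (δ * u - 1) = u * ((u : ℤ) ^ (k - 1) + δ) := by
          have h3 : ((u ^ k : ℕ) : ℤ) = ((u * u ^ (k - 1) : ℕ) : ℤ) := by rw [e1]
          have h4 : (D.n : ℤ) = ((u ^ k + 1 : ℕ) : ℤ) := by rw [hn]
          push_cast at h3 h4 ⊢
          rw [h4]
          linear_combination h3
        rw [h2]
        exact Dvd.dvd.mul_left h1 _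
    by_cases hb1 : ∃ t : ℕ, t.Prime ∧ t ∣ D.m ∧ t ∣ u ^ (k - 1) + 1
    · by_cases hb2 : ∃ t : ℕ, t.Prime ∧ t ∣ D.m ∧ t ∣ u ^ (k - 1) - 1
      · obtain ⟨t, ht, htm, htd⟩ := hb1
        obtain ⟨r, hr, hrm, hrd⟩ := hb2
        have h1 := h.dvd_e (hB _ oB dvd_rfl) ht htd htm
        have h2 := h.dvd_e (hC _ oC dvd_rfl) hr hrd hrm
        refine both (D := D) hu2 hue hk hn ?_
        rw [sq_fac]
        refine Nat.Coprime.mul_dvd_of_dvd_of_dvd ?_ h1 h2
        refine Nat.coprime_of_dvd fun p hp hp1 hp2 => ?_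
        have h3 : p ∣ 2 := by
          have h4 : u ^ (k - 1) + 1 = (u ^ (k - 1) - 1) + 2 := by have := hone (k - 1); omega
          rw [h4] at hp1
          exact (Nat.dvd_add_right hp2).1 hp1
        rw [(Nat.prime_dvd_prime_iff_eq hp Nat.prime_two).1 h3] at hp1
        exact (Nat.not_even_iff_odd.2 oB) (even_iff_two_dvd.2 hp1)
      · push Not at hb2
        rw [mul_comm] at hred2
        have h1 := dvd_of_primes hred2 hb2
        refine hkill 1 (Or.inl rfl) (cast_dvd h1 ?_)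
        push_cast
        ring
    · push Not at hb1
      have h1 := dvd_of_primes hred2 hb1
      refine hkill (-1) (Or.inr rfl) (cast_dvd h1 ?_)
      have := hone (k - 1)
      push_cast [this]
      ring
  · -- `u` odd, `k` even
    rw [← hn] at hred
    have hred2 := dvd_of_primes hred fun t ht htm => not_mul ht (fun h5 => t_ne_two ht htm
      ((Nat.prime_dvd_prime_iff_eq ht Nat.prime_two).1 h5)) (not_dvd_n ht htm)
    have h1 : D.m ∣ u ^ (k - 1) + 1 := by
      rw [mul_comm] at hred2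
      refine dvd_of_primes hred2 fun t ht htm hd => ?_
      -- the order is even
      have h4 : t ∣ 4 * orderOf x := by
        rw [hx]
        exact hd.mul_right _
      have h5 : t ∣ orderOf x := ((Nat.Prime.dvd_mul ht).1 h4).resolve_left fun h6 => by
        have := Nat.le_of_dvd (by norm_num) h6
        have := D.prime_m_ge ht htm
        omega
      have h6 := h.tor x t ht htm h5
      apply D.e_odd
      refine dvd_trans ?_ h6
      have h7 : 8 ∣ 4 * orderOf x := by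
        rw [hx]
        have h8 : (u - 1) * (u + 1) ∣ (u ^ (k - 1) - 1) * (u + 1) :=
          Nat.mul_dvd_mul_right (Nat.sub_one_dvd_pow_sub_one _ _) _
        refine dvd_trans ?_ h8
        obtain ⟨l, rfl⟩ := huo
        rw [Nat.add_sub_cancel]
        have h9 : 2 ∣ l * (l + 1) := even_iff_two_dvd.1 (Nat.even_mul_succ_self l)
        obtain ⟨z, hz⟩ := h9
        exact ⟨z, by
          calc 2 * l * (2 * l + 1 + 1) = 4 * (l * (l + 1)) := by ring
            _ = 8 * z := by rw [hz]; ring⟩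
      exact Nat.dvd_of_mul_dvd_mul_left (show 0 < 4 by norm_num) (by simpa using h7)
    refine dead_pow (D := D) (g := 2) (u := u) (k := k) (B := u - 1) (Or.inr (Or.inl rfl)) hu2 hk (Or.inl hn.symm) ?_ ?_
    · rw [abs_le]; constructor <;> linarith
    · refine cast_dvd (h1.mul_left u) ?_
      have h3 : ((2 * D.n : ℕ) : ℤ) = ((u ^ k + 1 : ℕ) : ℤ) := by rw [hn]
      rw [e1] at h3
      push_cast at h3 ⊢
      linear_combination -h3
  · -- `u`, `k` odd
    have hk1 : Even (k - 1) := by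
      obtain ⟨l, hl⟩ := hko
      exact ⟨l, by omega⟩
    have h1 : D.m ∣ u ^ (k - 1) + 1 := by
      rw [← hn] at hred
      have h2 := dvd_of_primes hred fun t ht htm => not_mul ht (not_dvd_n ht htm) (hadd ht htm)
      rw [mul_comm] at h2
      exact dvd_of_primes h2 fun t ht htm => hev ht htm hk1 (by omega) (by omega)
    have h2 : u ^ k + 1 ∣ 4 * D.n := hdiv helt hs₀ hs₀n (by rw [← hn]; exact hs₀n.mul_right _)
    rw [← hn, mul_comm] at h2
    have h3 : u + 1 ∣ 4 := Nat.dvd_of_mul_dvd_mul_right D.pos_n h2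
    have h4 := Nat.le_of_dvd (by norm_num) h3
    have hu3 : u = 3 := by
      obtain ⟨l, hl⟩ := huo
      omega
    subst hu3
    have h6 : (D.m : ℤ) ∣ 2 * D.n + 1 := by
      apply odd_of_dvd
      refine cast_dvd (h1.mul_left 3) ?_
      have h7 : ((D.n * (3 + 1) : ℕ) : ℤ) = ((3 ^ k + 1 : ℕ) : ℤ) := by rw [hn]
      rw [e1] at h7
      push_cast at h7 ⊢
      linear_combination -h7
    by_cases h19 : D.n = 19
    · rw [h19] at hn
      have h7 : 3 ^ 4 ≤ 3 ^ k := Nat.pow_le_pow_right (by norm_num) hk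
      omega
    · -- `q ≠ 2` or `n = 73`
      rcases Nat.lt_or_ge D.q 7 with h7 | h7
      · have hsm := small D (by omega)
        have hm := D.hm
        obtain ⟨n, hn'⟩ : ∃ n, D.n = n := ⟨_, rfl⟩
        obtain ⟨m, hm'⟩ : ∃ m : ℤ, (D.m : ℤ) = m := ⟨_, rfl⟩
        rw [hn'] at h6 hsm h19
        rw [hm'] at h6 hm
        simp only [List.mem_cons, List.not_mem_nil, or_false, Prod.mk.injEq] at hsm
        rcases hsm with ⟨h3, -, -, h4⟩ | ⟨h3, -, -, h4⟩ | ⟨h3, -, -, h4⟩ | ⟨h3, -, -, h4⟩ | ⟨h3, -, -, h4⟩ |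
          ⟨h3, -, -, h4⟩ | ⟨h3, -, -, h4⟩ | ⟨h3, -, -, h4⟩ | ⟨h3, -, -, h4⟩ | ⟨h3, -, -, h4⟩ | ⟨h3, -, -, h4⟩ |
          ⟨h3, -, -, h4⟩ |
        ⟨h3, -, -, h4⟩ | ⟨h3, -, -, h4⟩ <;> rw [h3] at hm h7 <;> first | omega | skip
        all_goals norm_num at hm
        all_goals rw [hm, h4] at h6
        all_goals norm_num at h6
      · have h8 : (7 : ℤ) ≤ D.q := by exact_mod_cast h7
        have hd : (D.d : ℤ) ≤ 3 := by rcases D.hd with h | h <;> rw [h] <;> norm_num
        have hd0 : (0 : ℤ) < D.d := by exact_mod_cast D.d_pos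
        have h9 := kill2_le D (A := 2) (B := 1) h6 (by norm_num)
        nlinarith [sq_nonneg ((D.q : ℤ) ^ 2 - 1)]
  · -- `u = 2`, `k` odd
    have hk1 : Even (k - 1) := by
      obtain ⟨l, hl⟩ := hko
      exact ⟨l, by omega⟩
    have h1 : D.m ∣ 2 ^ k + 1 := by
      rw [← hn] at hred
      have h2 : D.m ∣ (D.n * (2 ^ (k - 1) - 1)) * (2 ^ k + 1) := by
        refine hred.trans (dvd_of_eq ?_)
        ring
      exact dvd_of_primes h2 fun t ht htm => not_mul ht (not_dvd_n ht htm) (hev ht htm hk1 (by omega) (by omega))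
    refine dead_AB (D := D) (A := 2) (B := -1) (by norm_num) (by norm_num) (by norm_num) (by decide) ?_
    refine cast_dvd h1 ?_
    have h4 : 2 ^ k + 1 + 1 = 2 * D.n := by omega
    have h5 : ((2 ^ k + 1 + 1 : ℕ) : ℤ) = ((2 * D.n : ℕ) : ℤ) := by rw [h4]
    push_cast at h5 ⊢
    linear_combination h5
  · -- `u = 3`
    have hC' : ∀ t : ℕ, t.Prime → t ∣ D.m → ¬ t ∣ 3 ^ (k - 1) - 1 := by
      intro t ht htm hd
      rcases Nat.even_or_odd (k - 1) with h1 | h1
      · exact hev ht htm h1 (by omega) (by omega) hd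
      · obtain ⟨x, hx⟩ := h3C rfl h1
        have h6 := h.tor x t ht htm (by rw [hx]; exact hd)
        apply D.e_odd
        refine dvd_trans ?_ h6
        rw [hx]
        exact dvd_trans (by norm_num) (Nat.sub_one_dvd_pow_sub_one 3 (k - 1))
    have hab : ∀ t : ℕ, t.Prime → t ∣ D.m → ¬ t ∣ a ∧ ¬ t ∣ b := by
      intro t ht htm
      have h13 := D.prime_m_ge ht htm
      constructor
      · intro hd
        have := Nat.le_of_dvd (by omega) hd
        omega
      · intro hd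
        have := Nat.le_of_dvd (by omega) hd
        omega
    have h1 : D.m ∣ (3 ^ k + 1) * (3 ^ (k - 1) + 1) := by
      have h2 : D.m ∣ (3 ^ (k - 1) - 1) * ((3 ^ k + 1) * (3 ^ (k - 1) + 1)) := by
        refine hred.trans (dvd_of_eq ?_)
        ring
      exact dvd_of_primes h2 hC'
    rcases hAB with ⟨hn, -⟩ | hn
    · have h2 : D.m ∣ 3 ^ k + 1 := by
        rw [mul_comm] at h1
        refine dvd_of_primes h1 fun t ht htm => ?_
        rw [eB, ← hn]
        exact not_mul ht (hab t ht htm).2 (not_dvd_n ht htm)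
      have h3 : (D.m : ℤ) ∣ 3 * b * D.n - 2 := by
        refine cast_dvd h2 ?_
        have h4 : ((3 ^ (k - 1) + 1 : ℕ) : ℤ) = ((b * D.n : ℕ) : ℤ) := by rw [eB, hn]
        rw [e1]
        push_cast at h4 ⊢
        linear_combination 3 * h4
      rcases hpar with ⟨-, -, rfl⟩ | ⟨-, -, rfl⟩
      · refine dead_AB (D := D) (A := 6) (B := -1) (by norm_num) (by norm_num) (by norm_num) (by decide) ?_
        apply odd_of_dvd
        have : (2 : ℤ) * (6 * D.n + -1) = 3 * (4 : ℕ) * D.n - 2 := by push_cast; ring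
        rwa [this]
      · refine dead_AB (D := D) (A := 3) (B := -1) (by norm_num) (by norm_num) (by norm_num) (by decide) ?_
        apply odd_of_dvd
        have : (2 : ℤ) * (3 * D.n + -1) = 3 * (2 : ℕ) * D.n - 2 := by push_cast; ring
        rwa [this]
    · obtain ⟨t, ht, htm⟩ := Nat.exists_prime_and_dvd (show D.m ≠ 1 by have := D.m_ge; omega)
      have h2 := htm.trans h1
      rw [eA, eB] at h2
      have h3 : t ∣ a * b * (A * B) := h2.trans (dvd_of_eq (by ring))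
      rw [← hn] at h3
      exact not_mul ht (not_mul ht (hab t ht htm).1 (hab t ht htm).2) (not_dvd_n ht htm) h3

/-- **Row `PΩ⁺(2k, u)`.** -/
theorem row_omega_plus {k : ℕ} (hk : 4 ≤ k) (h : Sit D (POmega F (quadFormPlus k F))) : False := by
  have hc := Cfsg.Agent.S0293.result (F := F) rfl k hk
  rw [← Nat.card_eq_fintype_card] at hc
  rw [← coe_plusForm] at h hc
  exact plus (sg_plusForm (F := F) k) hk hc h

/-- **Row `PΩ⁻(2k, u)`.** -/
theorem row_omega_minus {k : ℕ} {a b : F} (hk : 4 ≤ k)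
    (hab : ∀ z₁ z₂ : F, z₁ ^ 2 + a * z₁ * z₂ + b * z₂ ^ 2 = 0 → z₁ = 0 ∧ z₂ = 0)
    (h : Sit D (POmega F (quadFormMinus (k - 1) F a b))) : False := by
  have hc := Cfsg.Agent.S0294.result (F := F) rfl k hk a b hab
  rw [← Nat.card_eq_fintype_card] at hc
  have hs := sg_minusForm (F := F) (k - 1) hab
  rw [Nat.sub_add_cancel (by omega)] at hs
  rw [← coe_minusForm] at h hc
  exact minus hs hk hc h

end Cfsg.Agent.R2.Spec.X1.E6.I9
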