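import Cfsg.Agent.R2.Spec.X1.E6.I9.Base
import Cfsg.Agent.H72.F4I.Iso.Uni
import Cfsg.Agent.H72.AdjPSUW

/-!
# `E₆(q)`, `²E₆(q)`, row `PSU_k(u)`, `k ≥ 3` (helper977, S3480, S3481)
-/

set_option autoImplicit false

namespace Cfsg.Agent.R2.Spec.X1.E6.I9

open Cfsg Cfsg.Agent.R2.Spec.X1.E6 Cfsg.Agent.H72.F4I.Iso Cfsg.Agent.H94.PG
open Cfsg.Agent.H948.UBase Cfsg.Agent.H948.UProd Cfsg.Agent.H948.UTorus Cfsg.Agent.H948.UMain

section num

variable {D : Dat}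

theorem uni_exc {n g u k : ℕ} (hu : 2 ≤ u) (hk : 3 ≤ k) (hgk : g ∣ k) (hgu : g ∣ u + 1)
    (h1 : n * g * (u + 1) = u ^ k + 1 ∨ n * g * (u + 1) + 1 = u ^ k)
    (h : n = 73 ∧ g = 5 ∨ n = 73 ∧ g = 8 ∨ n = 19 ∧ g = 2) : False := by
  have hk4 : 4 ≤ k := by
    by_contra hcon
    obtain rfl : k = 3 := by omega
    rcases h with ⟨-, rfl⟩ | ⟨-, rfl⟩ | ⟨-, rfl⟩ <;> revert hgk <;> decide
  have hC : n * g ≤ 584 := by rcases h with ⟨rfl, rfl⟩ | ⟨rfl, rfl⟩ | ⟨rfl, rfl⟩ <;> norm_num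
  have h2 : u ^ k ≤ n * g * (u + 1) + 1 := by omega
  have h3 : u ^ k ≤ 584 * (u + 1) + 1 := h2.trans (Nat.add_le_add_right (Nat.mul_le_mul_right _ hC) 1)
  have hu8 : u ≤ 8 := by
    by_contra hcon
    have h4 : u ^ 4 ≤ u ^ k := Nat.pow_le_pow_right (by omega) hk4
    have h5 : 9 ^ 3 * u ≤ u ^ 4 := by
      rw [pow_succ u 3]
      exact Nat.mul_le_mul_right u (Nat.pow_le_pow_left (by omega) 3)
    omega
  have hk12 : k ≤ 12 := by
    by_contra hcon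
    have h4 : 2 ^ 13 ≤ 2 ^ k := Nat.pow_le_pow_right (by norm_num) (by omega)
    have h5 : 2 ^ k ≤ u ^ k := Nat.pow_le_pow_left hu k
    omega
  have key : ∀ x ∈ [(73, 5), (73, 8), (19, 2)], ∀ u ∈ [2, 3, 4, 5, 6, 7, 8], ∀ k ∈ [4, 5, 6, 7, 8, 9, 10, 11, 12],
      (x.1 * x.2 * (u + 1) = u ^ k + 1 ∨ x.1 * x.2 * (u + 1) + 1 = u ^ k) → ¬ x.2 ∣ k := by decide
  refine key (n, g) ?_ u ?_ k ?_ h1 hgk
  · rcases h with ⟨rfl, rfl⟩ | ⟨rfl, rfl⟩ | ⟨rfl, rfl⟩ <;> decide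
  · clear key h1 h2 h3 hgu
    interval_cases u <;> decide
  · clear key h1 h2 h3
    interval_cases k <;> decide

/-- the numbers, first case -/
theorem uni_dead_one {g u k : ℕ} {B : ℤ} (hu : 2 ≤ u) (hk : 3 ≤ k) (hg0 : 0 < g) (hgk : g ∣ k) (hgu : g ∣ u + 1)
    (h1 : D.n * g * (u + 1) = u ^ k + 1 ∨ D.n * g * (u + 1) + 1 = u ^ k) (hB : B = 1 ∨ B = -1)
    (h2 : (D.m : ℤ) ∣ g * D.n + B) : False := by
  have hdead : g = 1 ∨ (g : ℤ) + 1 ≤ D.q → False := fun h => by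
    refine dead_one (D := D) (A := g) (B := B) (by exact_mod_cast hg0) hB ?_ h2
    rcases h with h | h
    · left; exact_mod_cast h
    · exact Or.inr h
  have hg1 : g ≠ 1 := fun h => hdead (Or.inl h)
  have hgq : D.q ≤ g := by
    by_contra hcon
    exact hdead (Or.inr (by exact_mod_cast (by omega : g + 1 ≤ D.q)))
  have hgk' : g ≤ k := Nat.le_of_dvd (by omega) hgk
  have hgu' : g ≤ u + 1 := Nat.le_of_dvd (by omega) hgu
  have hn := n_le (D := D)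
  rcases Nat.lt_or_ge g 9 with hg9 | hg9
  · have hsm := small D (by omega)
    have hm := D.hm
    have hexc := fun h => uni_exc hu hk hgk hgu h1 h
    obtain ⟨n, hn'⟩ : ∃ n, D.n = n := ⟨_, rfl⟩
    obtain ⟨m, hm'⟩ : ∃ m : ℤ, (D.m : ℤ) = m := ⟨_, rfl⟩
    rw [hn'] at h2 hsm hexc
    rw [hm'] at h2 hm
    simp only [List.mem_cons, List.not_mem_nil, or_false, Prod.mk.injEq] at hsm
    have h25 : n = 73 → g = 5 → False := fun h1 h2 => hexc (Or.inl ⟨h1, h2⟩)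
    have h28 : n = 73 → g = 8 → False := fun h1 h2 => hexc (Or.inr (Or.inl ⟨h1, h2⟩))
    have h22 : n = 19 → g = 2 → False := fun h1 h2 => hexc (Or.inr (Or.inr ⟨h1, h2⟩))
    rcases hsm with ⟨h3, -, -, h4⟩ | ⟨h3, -, -, h4⟩ | ⟨h3, -, -, h4⟩ | ⟨h3, -, -, h4⟩ | ⟨h3, -, -, h4⟩ |
      ⟨h3, -, -, h4⟩ | ⟨h3, -, -, h4⟩ | ⟨h3, -, -, h4⟩ | ⟨h3, -, -, h4⟩ | ⟨h3, -, -, h4⟩ | ⟨h3, -, -, h4⟩ |
      ⟨h3, -, -, h4⟩ |
        ⟨h3, -, -, h4⟩ | ⟨h3, -, -, h4⟩ <;> rw [h3] at hm hgq <;> norm_num at hm <;> subst hm <;> subst h4 <;> clear hn hexc hdead h1 <;>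
      rcases hB with rfl | rfl <;>
      interval_cases g <;> first | (exact h25 rfl rfl) | (exact h28 rfl rfl) | (exact h22 rfl rfl) | (norm_num at h2)
  · -- `g ≥ 9`
    have h3 : u ^ k ≤ D.n * g * (u + 1) + 1 := by omega
    have h4 : D.n ≤ (u + 1) ^ 6 + (u + 1) ^ 3 + 1 := hn.trans (by
      have : D.q ≤ u + 1 := hgq.trans hgu'
      gcongr)
    have h5 : D.n * g * (u + 1) ≤ ((u + 1) ^ 6 + (u + 1) ^ 3 + 1) * (u + 1) * (u + 1) := by gcongr
    have h6 : u ^ 9 ≤ u ^ k := Nat.pow_le_pow_right (by omega) (by omega)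
    have hu8 : 8 ≤ u := by omega
    obtain ⟨v, rfl⟩ : ∃ v, u = v + 8 := ⟨u - 8, by omega⟩
    have h7 : ((v + 8 + 1) ^ 6 + (v + 8 + 1) ^ 3 + 1) * (v + 8 + 1) * (v + 8 + 1) + 1 < (v + 8) ^ 9 := by
      have e1 : ((v + 8 + 1) ^ 6 + (v + 8 + 1) ^ 3 + 1) * (v + 8 + 1) * (v + 8 + 1) + 1 =
        v^8 + 72*v^7 + 2268*v^6 + 40825*v^5 + 459315*v^4 + 3307554*v^3 + 14887639*v^2 + 38296575*v + 43105852 := by ring
      have e2 : (v + 8) ^ 9 = v^9 + 72*v^8 + 2304*v^7 + 43008*v^6 + 516096*v^5 + 4128768*v^4 + 22020096*v^3 +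
        75497472*v^2 + 150994944*v + 134217728 := by ring
      rw [e1, e2]
      have := Nat.zero_le (v ^ 9)
      omega
    omega

/-- the numbers, second case -/
theorem uni_dead_two {u k : ℕ} {B : ℤ} (hu : 2 ≤ u) (hk : 4 ≤ k) (hk' : u + 1 ∣ k)
    (h1 : D.n * (u + 1) = u ^ (k - 1) + 1 ∨ D.n * (u + 1) + 1 = u ^ (k - 1)) (hB : B = 1 ∨ B = -1)
    (h2 : (D.m : ℤ) ∣ u * D.n + B) : False := by
  have hqu : D.q ≤ u := by
    by_contra hcon
    exact dead_one (D := D) (A := u) (B := B) (by exact_mod_cast (by omega : 0 < u)) hB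
      (Or.inr (by exact_mod_cast (by omega : u + 1 ≤ D.q))) h2
  have hn := n_le (D := D)
  have h3 : u ^ (k - 1) ≤ D.n * (u + 1) + 1 := by omega
  have hk8 : k ≤ 8 := by
    by_contra hcon
    have h5 : u ^ 8 ≤ u ^ (k - 1) := Nat.pow_le_pow_right (by omega) (by omega)
    have h6 : D.n ≤ u ^ 6 + u ^ 3 + 1 := hn.trans (by gcongr)
    have h7 : D.n * (u + 1) ≤ (u ^ 6 + u ^ 3 + 1) * (u + 1) := Nat.mul_le_mul_right _ h6
    obtain ⟨v, rfl⟩ : ∃ v, u = v + 2 := ⟨u - 2, by omega⟩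
    have h8 : ((v + 2) ^ 6 + (v + 2) ^ 3 + 1) * (v + 2 + 1) + 1 < (v + 2) ^ 8 := by
      have e1 : ((v + 2) ^ 6 + (v + 2) ^ 3 + 1) * (v + 2 + 1) + 1 =
        v^7 + 15*v^6 + 96*v^5 + 341*v^4 + 729*v^3 + 942*v^2 + 685*v + 220 := by ring
      have e2 : (v + 2) ^ 8 = v^8 + 16*v^7 + 112*v^6 + 448*v^5 + 1120*v^4 + 1792*v^3 + 1792*v^2 + 1024*v + 256 := by
        ring
      rw [e1, e2]
      have := Nat.zero_le (v ^ 8)
      omega
    omega
  have hu7 : u ≤ 7 := by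
    have := Nat.le_of_dvd (by omega) hk'
    omega
  have hsm := small D (by omega)
  obtain ⟨n, hn'⟩ : ∃ n, D.n = n := ⟨_, rfl⟩
  rw [hn'] at hsm h1
  simp only [List.mem_cons, List.not_mem_nil, or_false, Prod.mk.injEq] at hsm
  have key : ∀ n ∈ [73, 19, 757, 703, 1387, 4033, 15751, 5167, 39331, 117307, 262657, 87211, 532171, 530713],
    ∀ u ∈ [2, 3, 4, 5, 6, 7], ∀ k ∈ [4, 5, 6, 7, 8], (n * (u + 1) = u ^ (k - 1) + 1 ∨ n * (u + 1) + 1 = u ^ (k - 1)) →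
      ¬ u + 1 ∣ k := by
    decide
  have hnm : n ∈ [73, 19, 757, 703, 1387, 4033, 15751, 5167, 39331, 117307, 262657, 87211, 532171, 530713] := by
    rcases hsm with ⟨-, -, -, h4⟩ | ⟨-, -, -, h4⟩ | ⟨-, -, -, h4⟩ | ⟨-, -, -, h4⟩ | ⟨-, -, -, h4⟩ |
      ⟨-, -, -, h4⟩ | ⟨-, -, -, h4⟩ | ⟨-, -, -, h4⟩ | ⟨-, -, -, h4⟩ | ⟨-, -, -, h4⟩ | ⟨-, -, -, h4⟩ |
      ⟨-, -, -, h4⟩ |
        ⟨-, -, -, h4⟩ | ⟨-, -, -, h4⟩ <;> rw [h4] <;> decide
  refine key n hnm u ?_ k ?_ h1 hk'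
  · clear key hnm h1 h2 h3 hk'
    interval_cases u <;> decide
  · clear key hnm h1 h2 h3 hk'
    interval_cases k <;> decide

end num

section row

variable {D : Dat} {F : Type*} [Field F] [Fintype F] {k u : ℕ}

/-- `PSU_3(u)`: the primes `≥ 5` of `u + 1` are adjacent to `2` -/
theorem adj_two_three (hF : Fintype.card F = u ^ 2) {t : ℕ} (ht : t.Prime) (ht5 : 5 ≤ t) (hd : t ∣ u + 1) :
    Adj (PSU 3 F u) t 2 := by
  obtain ⟨T⟩ := exists_tor hF (m := 2) (by omega)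
  have hd2 : t ∣ u ^ 2 - 1 := by
    rw [sq_sub_one u (by have := LieClassical.HermBasic.two_le hF; omega)]
    exact hd.mul_right _
  obtain ⟨c, hc, hc1⟩ := exists_unit_order hF hd2
  have hcq : c ^ (u + 1) = 1 := by
    obtain ⟨b, hb⟩ := hd
    rw [hb, pow_mul, hc1, one_pow]
  obtain ⟨z, hz⟩ := T.scal c hcq
  refine adj_two_of_scal_ext hF T le_rfl ht (by omega) hz ?_ ?_
  · rintro ⟨d, hd'⟩
    obtain ⟨x, hx⟩ := exists_ne_zero (by norm_num) T
    have h3 := hd' (x, 1)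
    have h4 : T.ρ z x = d • x := congrArg Prod.fst h3
    have h5 : ((LinearMap.det (T.ρ z))⁻¹ • (1 : Module.End F F)) 1 = d • (1 : F) := congrArg Prod.snd h3
    rw [LinearMap.smul_apply, Module.End.one_apply, smul_eq_mul, smul_eq_mul, mul_one, mul_one, hz,
      LinearMap.det_smul, map_one, mul_one, T.dim] at h5
    rw [hz, LinearMap.smul_apply, Module.End.one_apply] at h4
    have h6 : c = d := by
      have h7 : (c - d) • x = 0 := by rw [sub_smul, h4, sub_self]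
      rcases smul_eq_zero.1 h7 with h8 | h8
      · exact sub_eq_zero.1 h8
      · exact absurd h8 hx
    rw [← h6] at h5
    have hc0 : c ≠ 0 := by
      rintro rfl
      rw [zero_pow (by omega)] at hcq
      exact zero_ne_one hcq
    have h9 : c ^ (2 + 1) = 1 := by
      have : c ^ 2 * (c ^ 2)⁻¹ = 1 := mul_inv_cancel₀ (pow_ne_zero _ hc0)
      rw [h5] at this
      rw [pow_succ]; exact this
    have h10 : t ∣ 2 + 1 := by
      rw [← hc]
      exact orderOf_dvd_of_pow_eq_one h9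
    have := Nat.le_of_dvd (by norm_num) h10
    omega
  · rw [ext_pow]
    have : z ^ t = 1 := by
      apply T.inj
      rw [map_pow, hz, map_one, smul_pow, one_pow, hc1, one_smul]
    rw [this, ext_one]
    exact isScal_one

/-- **Row `PSU_k(u)`.** -/
theorem row_psu (hF : Fintype.card F = u ^ 2) (hk : 3 ≤ k) (hne : ¬ (k = 3 ∧ u = 2)) (h : Sit D (PSU k F u)) :
    False := by
  have hu2 : 2 ≤ u := LieClassical.HermBasic.two_le hF
  have hfin : Finite (PSU k F u) := inferInstance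
  have hrow := psu_row hF hk hne (isoN h)
  have ht2 : ∀ {t : ℕ}, t.Prime → t ∣ D.m → t ≠ 2 := fun {t} ht htm => by
    have := D.prime_m_ge ht htm
    omega
  -- the primes of `m`
  have c0 : ∀ t : ℕ, t.Prime → t ∣ D.m → ¬ t ∣ u := fun t ht htm hd =>
    h.not_adj_two_m htm (adj_two_of_char hF hk ht (ht2 ht htm) hd)
  have c2 : ∀ t i : ℕ, t.Prime → t ∣ D.m → 4 ≤ k → i < k - 2 → ¬ t ∣ ph u i := fun t i ht htm hk4 hi hd =>
    h.not_adj_two_m htm (adj_two_of_lt hF hk4 ht (ht2 ht htm) hi hd)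
  have c1 : ∀ t : ℕ, t.Prime → t ∣ D.m → ¬ t ∣ u + 1 := by
    intro t ht htm hd
    rcases Nat.lt_or_ge k 4 with hk4 | hk4
    · obtain rfl : k = 3 := by omega
      exact h.not_adj_two_m htm (adj_two_three hF ht (by have := D.prime_m_ge ht htm; omega) hd)
    · exact c2 t 0 ht htm hk4 (by omega) (by rw [ph_zero]; exact hd)
  -- Lagrange
  have hred : D.m ∣ ph u (k - 2) * ph u (k - 1) := by
    have h1 : D.m ∣ Nat.card (SU k F u) := h.m_dvd_card.trans (Subgroup.card_quotient_dvd_card _)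
    rw [card_SU hF (by omega)] at h1
    have h2 := dvd_of_primes h1 fun r hr hrk hd => c0 r hr hrk (hr.dvd_of_dvd_pow hd)
    obtain ⟨t, rfl⟩ : ∃ t, k = t + 3 := ⟨k - 3, by omega⟩
    have e : t + 3 - 1 = t + 1 + 1 := by omega
    rw [e, Finset.prod_range_succ, Finset.prod_range_succ, mul_assoc] at h2
    have e2 : t + 3 - 2 = t + 1 := by omega
    rw [e, e2]
    refine dvd_of_primes h2 fun r hr hrk => not_dvd_prod (fun i hi => ?_) hr
    rw [Finset.mem_range] at hi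
    exact c2 r (i + 1) hr hrk (by omega) (by omega)
  have hg0 : 0 < Nat.gcd k (u + 1) := Nat.gcd_pos_of_pos_left _ (by omega)
  have hgu : Nat.gcd k (u + 1) ∣ u + 1 := Nat.gcd_dvd_right _ _
  have hco : IsCoprime (D.m : ℤ) ((u : ℤ) + 1) := by
    have h1 : Nat.Coprime D.m (u + 1) := coprime_m c1
    have h2 := Nat.isCoprime_iff_coprime.2 h1
    rwa [Nat.cast_add, Nat.cast_one] at h2
  have e1 : (u : ℤ) ^ k = u * (u : ℤ) ^ (k - 1) := by rw [← pow_succ', Nat.sub_add_cancel (by omega)]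
  have p1 := ph_cast (q := u) (by omega) (k - 1)
  have p2 := ph_cast (q := u) (by omega) (k - 2)
  rw [show k - 1 + 1 = k by omega] at p1
  rw [show k - 2 + 1 = k - 1 by omega] at p2
  have hs : (-1 : ℤ) ^ k = - (-1) ^ (k - 1) := by
    obtain ⟨j, rfl⟩ : ∃ j, k = j + 1 := ⟨k - 1, by omega⟩
    rw [pow_succ, Nat.add_sub_cancel]
    ring
  have hphn : ∀ i, ph u i = u ^ (i + 1) + 1 ∨ ph u i + 1 = u ^ (i + 1) := fun i => by
    unfold ph
    have : 1 ≤ u ^ (i + 1) := Nat.one_le_pow _ _ (by omega)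
    split_ifs
    · exact Or.inl rfl
    · right; omega
  have hsgn : ∀ j : ℕ, (-1 : ℤ) ^ j = 1 ∨ (-1 : ℤ) ^ j = -1 := fun j => neg_one_pow_eq_or ℤ j
  rcases hrow with ⟨h1, -⟩ | ⟨hk4, hd, h1, -⟩ | ⟨-, -, h1⟩ | ⟨-, -, h1⟩
  · -- first case
    have h3 : D.m ∣ ph u (k - 2) := by
      rw [mul_comm] at hred
      refine dvd_of_primes hred fun t ht htm => ?_
      rw [← h1]
      exact not_mul ht (not_mul ht (not_dvd_n ht htm) fun h4 => c1 t ht htm (h4.trans hgu)) (c1 t ht htm)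
    refine uni_dead_one (D := D) (B := (-1) ^ k) hu2 hk hg0 (Nat.gcd_dvd_left _ _) hgu ?_ (hsgn k) ?_
    · have := hphn (k - 1)
      rw [← h1, show k - 1 + 1 = k by omega] at this
      exact this
    have h4 : (D.m : ℤ) ∣ (u : ℤ) ^ (k - 1) - (-1) ^ (k - 1) := by
      rw [← p2]
      exact Int.natCast_dvd_natCast.2 h3
    have h5 : (D.n : ℤ) * (Nat.gcd k (u + 1) : ℤ) * ((u : ℤ) + 1) = (u : ℤ) ^ k - (-1) ^ k := by
      rw [← p1, ← h1]
      push_cast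
      ring
    apply hco.dvd_of_dvd_mul_left
    have h6 : ((u : ℤ) + 1) * ((Nat.gcd k (u + 1) : ℤ) * D.n + (-1) ^ k) =
        u * ((u : ℤ) ^ (k - 1) - (-1) ^ (k - 1)) := by
      rw [hs] at h5 ⊢
      linear_combination h5 + e1
    rw [h6]
    exact Dvd.dvd.mul_left h4 _
  · -- second case
    have h3 : D.m ∣ ph u (k - 1) := by
      refine dvd_of_primes hred fun t ht htm => ?_
      rw [← h1]
      exact not_mul ht (not_dvd_n ht htm) (c1 t ht htm)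
    refine uni_dead_two (D := D) (B := - (-1) ^ k) hu2 hk4 hd ?_ ?_ ?_
    · have := hphn (k - 2)
      rw [← h1, show k - 2 + 1 = k - 1 by omega] at this
      exact this
    · rcases hsgn k with h | h <;> rw [h] <;> norm_num
    have h4 : (D.m : ℤ) ∣ (u : ℤ) ^ k - (-1) ^ k := by
      rw [← p1]
      exact Int.natCast_dvd_natCast.2 h3
    have h5 : (D.n : ℤ) * ((u : ℤ) + 1) = (u : ℤ) ^ (k - 1) - (-1) ^ (k - 1) := by
      rw [← p2, ← h1]
      push_cast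
      ring
    apply hco.dvd_of_dvd_mul_left
    have h6 : ((u : ℤ) + 1) * ((u : ℤ) * D.n + - (-1) ^ k) = (u : ℤ) ^ k - (-1) ^ k := by
      rw [hs]
      linear_combination (u : ℤ) * h5 - e1
    rwa [h6]
  · have h2 := D.prime_n (s := 5) (by norm_num) (by rw [h1]; norm_num)
    norm_num at h2
  · have h2 := D.prime_n (s := 7) (by norm_num) (by rw [h1]; norm_num)
    norm_num at h2

end row

end Cfsg.Agent.R2.Spec.X1.E6.I9
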