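import Cfsg.Agent.R2.Spec.X1.E6.I9.Lin
import Cfsg.Agent.R2.Spec.X1.E6.I9.Uni
import Cfsg.Agent.R2.Spec.X1.E6.I9.OrthRow
import Cfsg.Agent.R2.Spec.X1.E6.I9.Small
import Cfsg.Agent.R2.Spec.X1.E6.I4.Real
import Cfsg.Agent.R2.Spec.X1.E6.I4.TwF4
import Cfsg.Agent.R2.Spec.X1.E6.ERG2
import Cfsg.Agent.R2.Spec.X1.E6.ERF4
import Cfsg.Agent.R2.Spec.X1.E6.ERSz
import Cfsg.Agent.R2.Spec.X1.E6.ERE8
import Cfsg.Prelude.Def_Classification2

/-!
# Identification of `E₆(q)`, `²E₆(q)`: assembly (helper977, statements S3480, S3481)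

`ident` : a nonabelian known simple group in the situation `Sit D` is `E₆(q)` (`ε = 1`) or `²E₆(q)` (`ε = -1`).
Rows: helper977 (classical, alternating, sporadic), helper407 (`E₆`, `²E₆`, `²F₄`), helper77 (the other exceptional groups).
-/

set_option autoImplicit false
set_option linter.unusedSectionVars false

namespace Cfsg.Agent.R2.Spec.X1.E6.I9

open Cfsg Cfsg.Lie Cfsg.Agent.R2.Spec.X1.E6

universe u

variable {D : Dat}

/-- **The identification.** -/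
theorem ident {S : Type u} [Group S] [Finite S] (hna : ¬ IsMulCommutative S) (hk : IsKnownSimple' S) (h : Sit D S) :
    (D.ε = 1 ∧ ∃ (F : Type) (_ : Field F) (_ : Fintype F), Fintype.card F = D.q ∧ Nonempty (S ≃* chevE6.group F)) ∨
      (D.ε = -1 ∧ ∃ (K : Type) (_ : Field K) (_ : Fintype K), Fintype.card K = D.q ^ 2 ∧
        Nonempty (S ≃* twistedE6 K D.q)) := by
  rcases hk with hk | hk | hk | hk | hk | hk | hk | hk | hk | hk
  · exfalso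
    have f : Fact (Nat.card S).Prime := ⟨hk⟩
    have hc : IsCyclic S := isCyclic_of_prime_card (p := Nat.card S) rfl
    exact hna ⟨⟨fun a b => (IsCyclic.commGroup (α := S)).mul_comm a b⟩⟩
  · obtain ⟨m, -, ⟨e⟩⟩ := hk
    exact (row_alt (h.congr e)).elim
  · obtain ⟨F, _, _, m, hm, h4, ⟨e⟩⟩ := hk
    rcases Nat.lt_or_ge m 3 with h3 | h3
    · obtain rfl : m = 2 := by omega
      exact (row_psl2 (h4 rfl) (h.congr e)).elim
    · exact (row_psl h3 (h.congr e)).elim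
  · obtain ⟨F, _, _, m, hm, h4, ⟨e⟩⟩ := hk
    exact (row_psp hm (h.congr e)).elim
  · obtain ⟨F, _, _, m, w, hF, hm, h4, ⟨e⟩⟩ := hk
    exact (row_psu hF hm h4 (h.congr e)).elim
  · obtain ⟨F, _, _, m, hm, h4, ⟨e⟩⟩ := hk
    exact (row_omega_odd hm h4 (h.congr e)).elim
  · obtain ⟨F, _, _, m, hm, ⟨e⟩⟩ := hk
    exact (row_omega_plus hm (h.congr e)).elim
  · obtain ⟨F, _, _, m, a, b, hm, hab, ⟨e⟩⟩ := hk
    exact (row_omega_minus hm hab (h.congr e)).elim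
  · rcases hk with hk | hk | hk | hk | hk | hk | hk | hk | hk | hk | hk
    · obtain ⟨F, _, _, -, ⟨e⟩⟩ := hk
      exact (R2.Spec.X1.E6.ERG2.row_G2 (h.congr e)).elim
    · obtain ⟨F, _, _, ⟨e⟩⟩ := hk
      exact (R2.Spec.X1.E6.ERF4.row_F4 (h.congr e)).elim
    · obtain ⟨F, _, _, ⟨e⟩⟩ := hk
      obtain ⟨h1, h2⟩ := R2.Spec.X1.E6.I4.row_E6 (h.congr e)
      exact Or.inl ⟨h1, F, _, _, h2, ⟨e⟩⟩
    · obtain ⟨F, _, _, ⟨e⟩⟩ := hk
      exact (R2.Spec.X1.E6.ERE8.row_E7 (h.congr e)).elim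
    · obtain ⟨F, _, _, ⟨e⟩⟩ := hk
      exact (R2.Spec.X1.E6.ERE8.row_E8 (h.congr e)).elim
    · obtain ⟨L, _, _, w, hw, hL, ⟨e⟩⟩ := hk
      obtain ⟨h1, rfl⟩ := R2.Spec.X1.E6.I4.row_2E6 hw hL (h.congr e)
      exact Or.inr ⟨h1, L, _, _, hL, ⟨e⟩⟩
    · obtain ⟨L, _, _, w, hw, hL, ⟨e⟩⟩ := hk
      exact (R2.Spec.X1.E6.ERF4.row_3D4 hw hL (h.congr e)).elim
    · obtain ⟨F, _, _, m, hm, hF, ⟨e⟩⟩ := hk
      exact (R2.Spec.X1.E6.ERSz.row_sz hm hF (h.congr e)).elim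
    · obtain ⟨F, _, _, m, hm, hF, ⟨e⟩⟩ := hk
      exact (R2.Spec.X1.E6.ERSz.row_ree hm hF (h.congr e)).elim
    · obtain ⟨F, _, _, m, hm, hF, ⟨e⟩⟩ := hk
      exact (R2.Spec.X1.E6.I4.row_2F4 hm hF (h.congr e)).elim
    · exact (row_tits h hk).elim
  · exact (row_spor h hk).elim

end Cfsg.Agent.R2.Spec.X1.E6.I9
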