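import Cfsg.Agent.R2.Spec.X1.E6.I9.Base
import Cfsg.Agent.H72.F4I.Iso.Lin
import Cfsg.Agent.H72.AdjPSL

/-!
# `E₆(q)`, `²E₆(q)`, row `PSL_k(u)`, `k ≥ 3` (helper977, S3480, S3481)
-/

set_option autoImplicit false

namespace Cfsg.Agent.R2.Spec.X1.E6.I9

open Cfsg.Agent.R2.Spec.X1.E6 Cfsg.Agent.H72.F4I.Iso Cfsg.Agent.H72 Cfsg.Agent.H72.AdjPSL Cfsg.Agent.H72.AdjOrth

section num

variable {D : Dat}

/-- the numbers, first case -/
theorem lin_dead_one {g u k : ℕ} (hu : 2 ≤ u) (hk : 3 ≤ k) (hg0 : 0 < g) (hgk : g ∣ k) (hgu : g ∣ u - 1)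
    (h1 : D.n * g * (u - 1) = u ^ k - 1) (h2 : (D.m : ℤ) ∣ g * D.n - 1) : False := by
  have hdead : g = 1 ∨ (g : ℤ) + 1 ≤ D.q → False := fun h => by
    refine dead_one (D := D) (A := g) (B := -1) (by exact_mod_cast hg0) (Or.inr rfl) ?_ (by simpa [sub_eq_add_neg] using h2)
    rcases h with h | h
    · left; exact_mod_cast h
    · exact Or.inr h
  have hg1 : g ≠ 1 := fun h => hdead (Or.inl h)
  have hgq : D.q ≤ g := by
    by_contra hcon
    exact hdead (Or.inr (by exact_mod_cast (by omega : g + 1 ≤ D.q)))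
  have hgk' : g ≤ k := Nat.le_of_dvd (by omega) hgk
  have hgu' : g + 1 ≤ u := by
    have := Nat.le_of_dvd (by omega) hgu
    omega
  -- `u ^ (k - 1) ≤ n g`
  have hle : u ^ (k - 1) ≤ D.n * g := by
    have h3 : u ^ k = u * u ^ (k - 1) := by rw [← pow_succ', Nat.sub_add_cancel (by omega)]
    have h4 : 1 ≤ u ^ (k - 1) := Nat.one_le_pow _ _ (by omega)
    obtain ⟨v, rfl⟩ : ∃ v, u = v + 1 := ⟨u - 1, by omega⟩
    rw [Nat.add_sub_cancel] at h1
    have h5 : (v + 1) ^ (k - 1) * v ≤ D.n * g * v := by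
      rw [h1, h3]
      have : (v + 1) * (v + 1) ^ (k - 1) = (v + 1) ^ (k - 1) * v + (v + 1) ^ (k - 1) := by ring
      omega
    exact Nat.le_of_mul_le_mul_right h5 (by omega)
  have hn : D.n ≤ D.q ^ 6 + D.q ^ 3 + 1 := by
    have h3 := D.hn
    have h4 : (1 : ℤ) ≤ D.d := by exact_mod_cast D.d_pos
    have h5 : (D.n : ℤ) ≤ D.d * D.n := by nlinarith [Int.natCast_nonneg D.n]
    have h6 : D.ε * (D.q : ℤ) ^ 3 ≤ (D.q : ℤ) ^ 3 := by
      have : (0 : ℤ) ≤ (D.q : ℤ) ^ 3 := by positivity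
      rcases D.eps with h | h <;> rw [h] <;> linarith
    have h7 : (D.n : ℤ) ≤ (D.q : ℤ) ^ 6 + D.q ^ 3 + 1 := by linarith
    exact_mod_cast h7
  rcases Nat.lt_or_ge g 9 with hg9 | hg9
  · -- finitely many cases
    have hsm := small D (by omega)
    have hm := D.hm
    obtain ⟨n, hn'⟩ : ∃ n, D.n = n := ⟨_, rfl⟩
    obtain ⟨m, hm'⟩ : ∃ m : ℤ, (D.m : ℤ) = m := ⟨_, rfl⟩
    rw [hn'] at h2 hsm hle
    rw [hm'] at h2 hm
    simp only [List.mem_cons, List.not_mem_nil, or_false, Prod.mk.injEq] at hsm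
    have key : ∀ n ∈ [73, 19, 757, 703, 1387, 4033, 15751, 5167, 39331, 117307, 262657, 87211, 532171, 530713], True := by simp
    have h25 : n = 73 → g = 5 → False := by
      rintro rfl rfl
      have h3 : 6 ^ (k - 1) ≤ u ^ (k - 1) := Nat.pow_le_pow_left hgu' _
      have h4 : 6 ^ 4 ≤ 6 ^ (k - 1) := Nat.pow_le_pow_right (by norm_num) (by omega)
      omega
    rcases hsm with ⟨h3, -, -, h4⟩ | ⟨h3, -, -, h4⟩ | ⟨h3, -, -, h4⟩ | ⟨h3, -, -, h4⟩ | ⟨h3, -, -, h4⟩ |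
      ⟨h3, -, -, h4⟩ | ⟨h3, -, -, h4⟩ | ⟨h3, -, -, h4⟩ | ⟨h3, -, -, h4⟩ | ⟨h3, -, -, h4⟩ | ⟨h3, -, -, h4⟩ |
      ⟨h3, -, -, h4⟩ |
        ⟨h3, -, -, h4⟩ | ⟨h3, -, -, h4⟩ <;> rw [h3] at hm hgq <;> norm_num at hm <;> subst hm <;> subst h4 <;> clear hn key hdead h1 <;>
      interval_cases g <;> first | (exact h25 rfl rfl) | (norm_num at h2)
  · -- `(g + 1) ^ (g - 1) ≤ g ((g + 1) ^ 6 + (g + 1) ^ 3 + 1)`
    have h3 : (g + 1) ^ 8 ≤ u ^ (k - 1) :=
      (Nat.pow_le_pow_left hgu' 8).trans (Nat.pow_le_pow_right (by omega) (by omega))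
    have h4 : D.n ≤ g ^ 6 + g ^ 3 + 1 := hn.trans (by gcongr)
    have h5 : (g + 1) ^ 8 ≤ (g ^ 6 + g ^ 3 + 1) * g := (h3.trans hle).trans (Nat.mul_le_mul_right g h4)
    have h6 : (g ^ 6 + g ^ 3 + 1) * g < (g + 1) ^ 8 := by
      have h7 : g ^ 3 + 1 ≤ g ^ 6 := by
        have : g ^ 6 = g ^ 3 * g ^ 3 := by ring
        have h8 : 2 ≤ g ^ 3 := by
          calc 2 ≤ 2 ^ 3 := by norm_num
            _ ≤ g ^ 3 := Nat.pow_le_pow_left (by omega) 3
        nlinarith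
      calc (g ^ 6 + g ^ 3 + 1) * g ≤ (g ^ 6 + g ^ 6) * g := Nat.mul_le_mul_right g (by omega)
        _ = 2 * g ^ 7 := by ring
        _ ≤ g * g ^ 7 := Nat.mul_le_mul_right _ (by omega)
        _ = g ^ 8 := by ring
        _ < (g + 1) ^ 8 := Nat.pow_lt_pow_left (by omega) (by norm_num)
    omega

/-- the numbers, second case -/
theorem lin_dead_two {u k : ℕ} (hu : 2 ≤ u) (hk : 3 ≤ k) (hk' : u - 1 ∣ k)
    (h1 : D.n * (u - 1) = u ^ (k - 1) - 1) (h2 : (D.m : ℤ) ∣ u * D.n + 1) : False := by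
  have hqu : D.q ≤ u := by
    by_contra hcon
    exact dead_one (D := D) (A := u) (B := 1) (by exact_mod_cast (by omega : 0 < u)) (Or.inl rfl)
      (Or.inr (by exact_mod_cast (by omega : u + 1 ≤ D.q))) h2
  have hn : D.n ≤ D.q ^ 6 + D.q ^ 3 + 1 := by
    have h3 := D.hn
    have h4 : (1 : ℤ) ≤ D.d := by exact_mod_cast D.d_pos
    have h5 : (D.n : ℤ) ≤ D.d * D.n := by nlinarith [Int.natCast_nonneg D.n]
    have h6 : D.ε * (D.q : ℤ) ^ 3 ≤ (D.q : ℤ) ^ 3 := by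
      have : (0 : ℤ) ≤ (D.q : ℤ) ^ 3 := by positivity
      rcases D.eps with h | h <;> rw [h] <;> linarith
    have h7 : (D.n : ℤ) ≤ (D.q : ℤ) ^ 6 + D.q ^ 3 + 1 := by linarith
    exact_mod_cast h7
  have h3 : 1 ≤ u ^ (k - 1) := Nat.one_le_pow _ _ (by omega)
  have h1' : D.n * (u - 1) + 1 = u ^ (k - 1) := by omega
  -- `k ≤ 8`
  have hk8 : k ≤ 8 := by
    by_contra hcon
    have h4 : u ^ (k - 1) = u * u ^ (k - 2) := by rw [← pow_succ']; congr 1; omega
    have h5 : u ^ 7 ≤ u ^ (k - 2) := Nat.pow_le_pow_right (by omega) (by omega)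
    have h6 : D.n ≤ u ^ 6 + u ^ 3 + 1 := hn.trans (by gcongr)
    have h7 : u ^ 6 + u ^ 3 + 1 < u ^ 7 := by
      have h8 : u ^ 3 + 1 < u ^ 6 := by
        have : u ^ 6 = u ^ 3 * u ^ 3 := by ring
        have h8 : 2 ^ 3 ≤ u ^ 3 := Nat.pow_le_pow_left (by omega) 3
        nlinarith
      calc u ^ 6 + u ^ 3 + 1 < 2 * u ^ 6 := by omega
        _ ≤ u * u ^ 6 := Nat.mul_le_mul_right _ hu
        _ = u ^ 7 := by ring
    have h8 : D.n + 1 ≤ u ^ (k - 2) := by omega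
    have h9 : (D.n + 1) * u ≤ u ^ (k - 1) := by rw [h4, mul_comm]; exact Nat.mul_le_mul_left u h8
    have h10 : D.n * (u - 1) ≤ D.n * u := Nat.mul_le_mul_left _ (by omega)
    rw [← h1', add_mul, one_mul] at h9
    omega
  have hu9 : u ≤ 9 := by
    have := Nat.le_of_dvd (by omega) hk'
    omega
  have hsm := small D (by omega)
  obtain ⟨n, hn'⟩ : ∃ n, D.n = n := ⟨_, rfl⟩
  rw [hn'] at hsm h1'
  simp only [List.mem_cons, List.not_mem_nil, or_false, Prod.mk.injEq] at hsm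
  have key : ∀ n ∈ [73, 19, 757, 703, 1387, 4033, 15751, 5167, 39331, 117307, 262657, 87211, 532171, 530713],
    ∀ u ∈ [2, 3, 4, 5, 6, 7, 8, 9], ∀ k ∈ [3, 4, 5, 6, 7, 8], n * (u - 1) + 1 = u ^ (k - 1) → ¬ u - 1 ∣ k := by
    decide
  have hnm : n ∈ [73, 19, 757, 703, 1387, 4033, 15751, 5167, 39331, 117307, 262657, 87211, 532171, 530713] := by
    rcases hsm with ⟨-, -, -, h4⟩ | ⟨-, -, -, h4⟩ | ⟨-, -, -, h4⟩ | ⟨-, -, -, h4⟩ | ⟨-, -, -, h4⟩ |
      ⟨-, -, -, h4⟩ | ⟨-, -, -, h4⟩ | ⟨-, -, -, h4⟩ | ⟨-, -, -, h4⟩ | ⟨-, -, -, h4⟩ | ⟨-, -, -, h4⟩ |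
      ⟨-, -, -, h4⟩ |
        ⟨-, -, -, h4⟩ | ⟨-, -, -, h4⟩ <;> rw [h4] <;> decide
  refine key n hnm u ?_ k ?_ h1' hk'
  · clear key hnm
    interval_cases u <;> decide
  · interval_cases k <;> decide

end num

section row

variable {D : Dat} {F : Type*} [Field F] [Fintype F] {k : ℕ}

theorem wL_two : wL (Fintype.card F) 2 = 2 := by
  rw [wL, if_pos]
  have := Fintype.one_lt_card (α := F)
  omega

/-- the prime divisors of `m` do not divide the small factors -/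
theorem psl_small (hk : 3 ≤ k) (h : Sit D (Matrix.ProjectiveSpecialLinearGroup (Fin k) F)) {t : ℕ} (ht : t.Prime)
    (htm : t ∣ D.m) : ¬ t ∣ Nat.card F ∧ ∀ j, 1 ≤ j → j + 2 ≤ k → ¬ t ∣ Nat.card F ^ j - 1 := by
  have ht13 := D.prime_m_ge ht htm
  have hno : ¬ ∃ z : Matrix.ProjectiveSpecialLinearGroup (Fin k) F, orderOf z = t * 2 := by
    rw [mul_comm]
    exact h.not_two_m ht htm
  have hu : Nat.card F = Fintype.card F := Nat.card_eq_fintype_card
  have hu2 := Fintype.one_lt_card (α := F)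
  rw [hu]
  rcases Nat.lt_or_ge k 4 with hk4 | hk4
  · obtain rfl : k = 3 := by omega
    obtain ⟨p, hp⟩ := CharP.exists F
    have hpf : Fact p.Prime := ⟨CharP.char_is_prime F p⟩
    have hspec := fun N => (H964.PrimeGraph.mem_spec3 (F := F) p N)
    obtain ⟨f, -, hf⟩ := FiniteField.card F p
    have hgt : Nat.Coprime t (Nat.gcd 3 (Fintype.card F - 1)) := by
      rw [Nat.Prime.coprime_iff_not_dvd ht]
      intro hd
      have := Nat.le_of_dvd (by norm_num) (hd.trans (Nat.gcd_dvd_left _ _))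
      omega
    have h2t : Nat.Coprime t 2 := (Nat.coprime_primes ht Nat.prime_two).2 (by omega)
    have hg2 : Nat.Coprime 2 (Nat.gcd 3 (Fintype.card F - 1)) :=
      Nat.Coprime.coprime_dvd_right (Nat.gcd_dvd_left _ _) (by norm_num)
    -- an element of order `t * 2`
    have h1 : t ∣ Fintype.card F - 1 → False := by
      intro hd
      apply hno
      rw [hspec]
      rcases hpf.out.eq_two_or_odd with hp2 | hp2
      · right; right; right; left
        apply Nat.dvd_div_of_mul_dvd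
        have h3 : Nat.gcd 3 (Fintype.card F - 1) * t ∣ Fintype.card F - 1 :=
          Nat.Coprime.mul_dvd_of_dvd_of_dvd hgt.symm (Nat.gcd_dvd_right _ _) hd
        rw [hp2, ← mul_assoc, mul_comm _ 2]
        exact Nat.mul_dvd_mul_left 2 h3
      · right; right; left
        have h3 : 2 ∣ Fintype.card F - 1 := by
          have : Odd (Fintype.card F) := by rw [hf]; exact (Nat.odd_iff.2 hp2).pow
          have := Nat.odd_iff.1 this
          omega
        exact h2t.mul_dvd_of_dvd_of_dvd hd h3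
    refine ⟨?_, ?_⟩
    · intro hd
      rw [hf] at hd
      have htp := (Nat.prime_dvd_prime_iff_eq ht hpf.out).1 (ht.dvd_of_dvd_pow hd)
      apply hno
      rw [hspec]
      right; right; right; left
      apply Nat.dvd_div_of_mul_dvd
      have h3 : 2 ∣ Fintype.card F - 1 := by
        have : Odd (Fintype.card F) := by
          rw [hf]
          exact (Nat.odd_iff.2 (hpf.out.eq_two_or_odd.resolve_left (by omega))).pow
        have := Nat.odd_iff.1 this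
        omega
      have h4 : Nat.gcd 3 (Fintype.card F - 1) * 2 ∣ Fintype.card F - 1 :=
        Nat.Coprime.mul_dvd_of_dvd_of_dvd hg2.symm (Nat.gcd_dvd_right _ _) h3
      rw [htp, ← mul_assoc, mul_comm _ p, mul_assoc]
      exact Nat.mul_dvd_mul_left p h4
    · intro j hj hj2 hd
      obtain rfl : j = 1 := by omega
      rw [pow_one] at hd
      exact h1 hd
  · have hw : k < wL (Fintype.card F) t + 2 := by
      by_contra hcon
      refine hno (adj_of_wL (F := F) ht Nat.prime_two (by omega) ?_)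
      rw [wL_two]
      omega
    have hnot : ¬ (t ∣ Fintype.card F ∨ t ∣ Fintype.card F - 1) := by
      intro h3
      rw [wL, if_pos h3] at hw
      omega
    rw [wL, if_neg hnot] at hw
    rw [not_or] at hnot
    refine ⟨hnot.1, ?_⟩
    intro j hj hj2 hd
    have h3 := Nat.le_of_dvd (by omega) (ee_dvd (by omega) hd)
    omega

/-- Lagrange -/
theorem psl_dvd (hk : 3 ≤ k) (h : Sit D (Matrix.ProjectiveSpecialLinearGroup (Fin k) F)) :
    D.m ∣ (Nat.card F ^ (k - 1) - 1) * (Nat.card F ^ k - 1) := by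
  obtain ⟨q, hq⟩ : ∃ q, Nat.card F = q := ⟨_, rfl⟩
  have hsm := fun {t : ℕ} (ht : t.Prime) (htm : t ∣ D.m) => psl_small hk h ht htm
  rw [hq] at hsm ⊢
  have h1 := S0243.result (F := F) (q := q) (by rw [← hq, Nat.card_eq_fintype_card]) k (by omega)
  have h2 : D.m ∣ ∏ i : Fin k, (q ^ k - q ^ (i : ℕ)) := by
    rw [← h1]
    exact (h.m_dvd_card.mul_left _).mul_left _
  rw [Fin.prod_univ_eq_prod_range (fun i => q ^ k - q ^ i) k] at h2
  obtain ⟨t, rfl⟩ : ∃ t, k = t + 2 := ⟨k - 2, by omega⟩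
  rw [Finset.prod_range_succ', Finset.prod_range_succ', mul_assoc] at h2
  have h3 := dvd_of_primes h2 fun r hr hrk => not_dvd_prod (fun i hi => by
    rw [Finset.mem_range] at hi
    have e : q ^ (t + 2) - q ^ (i + 1 + 1) = q ^ (i + 2) * (q ^ (t - i) - 1) := by
      rw [Nat.mul_sub, mul_one, ← pow_add]
      congr 2
      omega
    rw [e]
    intro hd
    rcases (Nat.Prime.dvd_mul hr).1 hd with h4 | h4
    · exact (hsm hr hrk).1 (hr.dvd_of_dvd_pow h4)
    · exact (hsm hr hrk).2 (t - i) (by omega) (by omega) h4) hr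
  have e : q ^ (t + 2) - q ^ (0 + 1) = q * (q ^ (t + 1) - 1) := by
    rw [Nat.mul_sub, mul_one, zero_add, pow_one, pow_succ, mul_comm]
  rw [e, mul_assoc] at h3
  have h4 := dvd_of_primes h3 fun r hr hrk => (hsm hr hrk).1
  rw [pow_zero] at h4
  exact h4

/-- **Row `PSL_k(u)`, `k ≥ 3`.** -/
theorem row_psl (hk : 3 ≤ k) (h : Sit D (Matrix.ProjectiveSpecialLinearGroup (Fin k) F)) : False := by
  have hrow := psl_row hk (isoN h)
  have hdvd := psl_dvd hk h
  have hsm := fun {t : ℕ} (ht : t.Prime) (htm : t ∣ D.m) => psl_small hk h ht htm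
  have hu2 : 2 ≤ Nat.card F := Finite.one_lt_card
  obtain ⟨u, hu⟩ : ∃ u, Nat.card F = u := ⟨_, rfl⟩
  rw [hu] at hrow hdvd hsm hu2
  have hg0 : 0 < Nat.gcd k (u - 1) := Nat.gcd_pos_of_pos_left _ (by omega)
  have hgu : Nat.gcd k (u - 1) ∣ u - 1 := Nat.gcd_dvd_right _ _
  have hu1 : ∀ {t : ℕ}, t.Prime → t ∣ D.m → ¬ t ∣ u - 1 := fun ht htm hd =>
    (hsm ht htm).2 1 le_rfl (by omega) (by rwa [pow_one])
  have hco : IsCoprime (D.m : ℤ) ((u : ℤ) - 1) := by
    have h1 : Nat.Coprime D.m (u - 1) := coprime_m fun t ht htm => hu1 ht htm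
    have h2 := Nat.isCoprime_iff_coprime.2 h1
    rwa [Nat.cast_sub (by omega), Nat.cast_one] at h2
  have hone : ∀ j, 1 ≤ u ^ j := fun j => Nat.one_le_pow _ _ (by omega)
  have e1 : (u : ℤ) ^ k = u * (u : ℤ) ^ (k - 1) := by rw [← pow_succ', Nat.sub_add_cancel (by omega)]
  rcases hrow with ⟨h1, -⟩ | ⟨hd, h1, -⟩
  · -- first case
    have h3 : D.m ∣ u ^ (k - 1) - 1 := by
      rw [mul_comm] at hdvd
      refine dvd_of_primes hdvd fun t ht htm => ?_
      rw [← h1]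
      exact not_mul ht (not_mul ht (not_dvd_n ht htm) fun h4 => hu1 ht htm (h4.trans hgu)) (hu1 ht htm)
    refine lin_dead_one (D := D) hu2 hk hg0 (Nat.gcd_dvd_left _ _) hgu h1 ?_
    have h4 : (D.m : ℤ) ∣ (u : ℤ) ^ (k - 1) - 1 := by
      have := Int.natCast_dvd_natCast.2 h3
      rwa [Nat.cast_sub (hone _), Nat.cast_pow, Nat.cast_one] at this
    have h5 : (D.n : ℤ) * (Nat.gcd k (u - 1) : ℤ) * ((u : ℤ) - 1) = (u : ℤ) ^ k - 1 := by
      have := congrArg (Nat.cast : ℕ → ℤ) h1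
      rwa [Nat.cast_mul, Nat.cast_mul, Nat.cast_sub (by omega), Nat.cast_sub (hone _), Nat.cast_pow, Nat.cast_one] at this
    apply hco.dvd_of_dvd_mul_left
    have h6 : ((u : ℤ) - 1) * ((Nat.gcd k (u - 1) : ℤ) * D.n - 1) = u * ((u : ℤ) ^ (k - 1) - 1) := by
      linear_combination h5 + e1
    rw [h6]
    exact Dvd.dvd.mul_left h4 _
  · -- second case
    have h3 : D.m ∣ u ^ k - 1 := by
      refine dvd_of_primes hdvd fun t ht htm => ?_
      rw [← h1]
      exact not_mul ht (not_dvd_n ht htm) (hu1 ht htm)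
    refine lin_dead_two (D := D) hu2 hk hd h1 ?_
    have h4 : (D.m : ℤ) ∣ (u : ℤ) ^ k - 1 := by
      have := Int.natCast_dvd_natCast.2 h3
      rwa [Nat.cast_sub (hone _), Nat.cast_pow, Nat.cast_one] at this
    have h5 : (D.n : ℤ) * ((u : ℤ) - 1) = (u : ℤ) ^ (k - 1) - 1 := by
      have := congrArg (Nat.cast : ℕ → ℤ) h1
      rwa [Nat.cast_mul, Nat.cast_sub (by omega), Nat.cast_sub (hone _), Nat.cast_pow, Nat.cast_one] at this
    apply hco.dvd_of_dvd_mul_left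
    have h6 : ((u : ℤ) - 1) * ((u : ℤ) * D.n + 1) = (u : ℤ) ^ k - 1 := by
      linear_combination (u : ℤ) * h5 - e1
    rwa [h6]

end row

end Cfsg.Agent.R2.Spec.X1.E6.I9
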