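import Cfsg.Agent.R2.Spec.X1.E6.Sit

/-!
# Numbers for the identification of `E₆(q)`, `²E₆(q)` (helper977, S3480, S3481)

* `kill2` : `m ∣ A n + B` implies `m ∣ A² + d² B²` (since `q⁶ = -1` modulo `m`), so `q⁴ - q² + 1 ≤ A² + d² B²`;
* `small` : the numbers for `q ≤ 9`.
-/

set_option autoImplicit false

namespace Cfsg.Agent.R2.Spec.X1.E6.I9

open Cfsg.Agent.R2.Spec.X1.E6

variable (D : Dat)

/-- `m ∣ A n + B` implies `m ∣ A² + d² B²` -/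
theorem kill2 {A B : ℤ} (h : (D.m : ℤ) ∣ A * D.n + B) : (D.m : ℤ) ∣ A ^ 2 + D.d ^ 2 * B ^ 2 := by
  have h1 : (D.m : ℤ) ∣ A * D.ε * D.q ^ 3 + B * D.d := by
    have h2 : A * D.ε * D.q ^ 3 + B * D.d = D.d * (A * D.n + B) - A * (D.d * D.n - D.ε * D.q ^ 3) := by ring
    rw [h2]
    exact dvd_sub (Dvd.dvd.mul_left h _) (Dvd.dvd.mul_left D.congr_n _)
  have h3 : (D.m : ℤ) ∣ (D.q : ℤ) ^ 6 + 1 := by
    rw [D.hm]
    exact ⟨(D.q : ℤ) ^ 2 + 1, by ring⟩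
  have h4 : A ^ 2 + D.d ^ 2 * B ^ 2 = A ^ 2 * ((D.q : ℤ) ^ 6 + 1) -
      (A * D.ε * D.q ^ 3 + B * D.d) * (A * D.ε * D.q ^ 3 - B * D.d) := by
    linear_combination (A ^ 2 * (D.q : ℤ) ^ 6) * D.eps_sq
  rw [h4]
  exact dvd_sub (Dvd.dvd.mul_left h3 _) (Dvd.dvd.mul_right h1 _)

/-- the size form -/
theorem kill2_le {A B : ℤ} (h : (D.m : ℤ) ∣ A * D.n + B) (hA : A ≠ 0) :
    (D.q : ℤ) ^ 4 - D.q ^ 2 + 1 ≤ A ^ 2 + D.d ^ 2 * B ^ 2 := by
  rw [← D.hm]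
  apply Int.le_of_dvd _ (kill2 D h)
  have : 0 < A ^ 2 := by positivity
  positivity

theorem ne_six : D.q ≠ 6 := by
  intro h
  have := D.pp
  rw [h] at this
  revert this
  decide

theorem ne_ten : D.q ≠ 10 := by
  intro h
  have := D.pp
  rw [h] at this
  revert this
  decide

/-- the numbers for small `q` -/
theorem small (h : D.q ≤ 9) : (D.q, D.ε, D.d, D.n) ∈
    ([(2, 1, 1, 73), (2, -1, 3, 19), (3, 1, 1, 757), (3, -1, 1, 703), (4, 1, 3, 1387), (4, -1, 1, 4033),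
      (5, 1, 1, 15751), (5, -1, 3, 5167), (7, 1, 3, 39331), (7, -1, 1, 117307), (8, 1, 1, 262657), (8, -1, 3, 87211), (9, 1, 1, 532171),
      (9, -1, 1, 530713)] : List (ℕ × ℤ × ℕ × ℕ)) := by
  have h2 := D.two_le
  have h6 := ne_six D
  have hn := D.hn
  have hd := D.hd
  have hd3 := D.hd3
  obtain ⟨q, hq⟩ : ∃ q, D.q = q := ⟨_, rfl⟩
  obtain ⟨d, hd'⟩ : ∃ d, D.d = d := ⟨_, rfl⟩
  obtain ⟨n, hn'⟩ : ∃ n, D.n = n := ⟨_, rfl⟩
  obtain ⟨e, he'⟩ : ∃ e, D.ε = e := ⟨_, rfl⟩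
  have he := D.eps
  rw [hq] at h h2 h6 hn hd3
  rw [hd'] at hn hd hd3
  rw [hn'] at hn
  rw [he'] at he hn hd3
  rw [hq, hd', hn', he']
  clear hq hd' hn' he'
  simp only [List.mem_cons, List.not_mem_nil, or_false, Prod.mk.injEq]
  interval_cases q <;> rcases he with rfl | rfl <;> rcases hd with rfl | rfl
  all_goals try norm_num at hd3
  all_goals try norm_num at hn
  all_goals try norm_num
  all_goals omega

end Cfsg.Agent.R2.Spec.X1.E6.I9
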