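import Cfsg.Agent.R2.Spec.X1.E6.I9.Sp
import Cfsg.Agent.H72.F4I.Iso.Orth
import Cfsg.Agent.H156.TDRow.Orth
import Cfsg.Agent.S0293
import Cfsg.Agent.S0294

/-!
# `E₆(q)`, `²E₆(q)`, rows `PΩ^±_{2k}(u)`, `k ≥ 4` (helper977, S3480, S3481)
-/

set_option autoImplicit false

namespace Cfsg.Agent.R2.Spec.X1.E6.I9

open Cfsg Cfsg.Agent.R2.Spec.X1.E6 Cfsg.Agent.H72.F4I.Iso Cfsg.Agent.H182.Orth Cfsg.Agent.H182.Sign
open Cfsg.Agent.H403.Classify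

section num

variable {D : Dat}

/-- the kill for small coefficients -/
theorem dead_AB {A B : ℤ} (hA : 1 ≤ A) (hA6 : A ≤ 6) (hB : |B| ≤ 3)
    (hs : ∀ x ∈ ([(73, 13), (19, 13), (757, 73), (703, 73), (1387, 241), (4033, 241), (15751, 601), (5167, 601)] : List (ℤ × ℤ)),
      ¬ x.2 ∣ A * x.1 + B) (h : (D.m : ℤ) ∣ A * D.n + B) : False := by
  rcases Nat.lt_or_ge D.q 7 with h7 | h7
  · have hsm := small D (by omega)
    have hm := D.hm
    obtain ⟨n, hn'⟩ : ∃ n, D.n = n := ⟨_, rfl⟩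
    obtain ⟨m, hm'⟩ : ∃ m : ℤ, (D.m : ℤ) = m := ⟨_, rfl⟩
    rw [hn'] at h hsm
    rw [hm'] at h hm
    simp only [List.mem_cons, List.not_mem_nil, or_false, Prod.mk.injEq] at hsm
    refine hs (n, m) ?_ h
    rcases hsm with ⟨h3, -, -, h4⟩ | ⟨h3, -, -, h4⟩ | ⟨h3, -, -, h4⟩ | ⟨h3, -, -, h4⟩ | ⟨h3, -, -, h4⟩ |
      ⟨h3, -, -, h4⟩ | ⟨h3, -, -, h4⟩ | ⟨h3, -, -, h4⟩ | ⟨h3, -, -, h4⟩ | ⟨h3, -, -, h4⟩ | ⟨h3, -, -, h4⟩ |
      ⟨h3, -, -, h4⟩ |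
        ⟨h3, -, -, h4⟩ | ⟨h3, -, -, h4⟩ <;> rw [h3] at hm h7 <;> first | omega | skip
    all_goals norm_num at hm
    all_goals rw [hm, h4]
    all_goals simp
  · have hd : (D.d : ℤ) ≤ 3 := by rcases D.hd with h | h <;> rw [h] <;> norm_num
    have hd0 : (0 : ℤ) < D.d := by exact_mod_cast D.d_pos
    have h4 : (7 : ℤ) ≤ D.q := by exact_mod_cast h7
    have h5 : (343 : ℤ) ≤ (D.q : ℤ) ^ 3 := by
      calc (343 : ℤ) = 7 ^ 3 := by norm_num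
        _ ≤ (D.q : ℤ) ^ 3 := pow_le_pow_left₀ (by norm_num) h4 3
    have hBd : |B| * D.d ≤ 9 := by nlinarith [abs_nonneg B]
    have h6 : 7 * (D.q : ℤ) ^ 3 ≤ D.q ^ 4 := by
      rw [pow_succ (D.q : ℤ) 3, mul_comm]
      exact mul_le_mul_of_nonneg_left h4 (by positivity)
    have h8 : (D.q : ℤ) ^ 2 * 7 ≤ D.q ^ 3 := by
      rw [pow_succ (D.q : ℤ) 2]
      exact mul_le_mul_of_nonneg_left h4 (by positivity)
    have h1 : |A| * D.q ^ 3 + |B| * D.d < D.m := by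
      rw [abs_of_pos (by linarith : 0 < A), D.hm]
      have h9 : A * (D.q : ℤ) ^ 3 ≤ 6 * D.q ^ 3 := mul_le_mul_of_nonneg_right hA6 (by positivity)
      nlinarith
    have h2 := D.kill h h1
    have h3 : |A * D.ε * (D.q : ℤ) ^ 3| = |B * (D.d : ℤ)| := by
      rw [eq_neg_of_add_eq_zero_left h2, abs_neg]
    rw [abs_mul, abs_mul, D.eps_abs, abs_mul, abs_of_pos (by linarith : 0 < A), mul_one, abs_of_pos hd0,
      abs_of_nonneg (show (0 : ℤ) ≤ (D.q : ℤ) ^ 3 by positivity)] at h3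
    nlinarith

/-- the kill for `u ^ k = g n ± 1` -/
theorem dead_pow {g u k : ℕ} {B : ℤ} (hg : g = 1 ∨ g = 2 ∨ g = 4) (hu : 2 ≤ u) (hk : 4 ≤ k)
    (h1 : u ^ k + 1 = g * D.n ∨ u ^ k = g * D.n + 1) (hB : |B| ≤ u + 1) (h : (D.m : ℤ) ∣ g * D.n + B) : False := by
  have hle : u ^ 4 ≤ 4 * D.n + 1 := by
    have h2 : u ^ 4 ≤ u ^ k := Nat.pow_le_pow_right (by omega) hk
    have h3 : g * D.n ≤ 4 * D.n := Nat.mul_le_mul_right _ (by omega)
    omega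
  rcases Nat.lt_or_ge D.q 5 with h5 | h5
  · have hsm := small D (by omega)
    obtain ⟨n, hn'⟩ : ∃ n, D.n = n := ⟨_, rfl⟩
    rw [hn'] at hsm h1 hle
    have hn : n ∈ [73, 19, 757, 703, 1387, 4033] := by
      simp only [List.mem_cons, List.not_mem_nil, or_false, Prod.mk.injEq] at hsm
      rcases hsm with ⟨h3, -, -, h4⟩ | ⟨h3, -, -, h4⟩ | ⟨h3, -, -, h4⟩ | ⟨h3, -, -, h4⟩ | ⟨h3, -, -, h4⟩ |
        ⟨h3, -, -, h4⟩ | ⟨h3, -, -, h4⟩ | ⟨h3, -, -, h4⟩ | ⟨h3, -, -, h4⟩ | ⟨h3, -, -, h4⟩ | ⟨h3, -, -, h4⟩ |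
        ⟨h3, -, -, h4⟩ |
        ⟨h3, -, -, h4⟩ | ⟨h3, -, -, h4⟩ <;> rw [h3] at h5 <;> first | omega | (rw [h4]; decide)
    have hn4 : n ≤ 4033 := by
      have : ∀ x ∈ [73, 19, 757, 703, 1387, 4033], x ≤ 4033 := by decide
      exact this n hn
    have hu11 : u ≤ 11 := by
      by_contra hcon
      have : 12 ^ 4 ≤ u ^ 4 := Nat.pow_le_pow_left (by omega) 4
      omega
    have hk14 : k ≤ 14 := by
      by_contra hcon
      have h4 : 2 ^ 15 ≤ 2 ^ k := Nat.pow_le_pow_right (by norm_num) (by omega)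
      have h5 : 2 ^ k ≤ u ^ k := Nat.pow_le_pow_left hu k
      have h6 : g * n ≤ 4 * n := Nat.mul_le_mul_right _ (by omega)
      omega
    have key : ∀ n ∈ [73, 19, 757, 703, 1387, 4033], ∀ u ∈ [2, 3, 4, 5, 6, 7, 8, 9, 10, 11],
        ∀ k ∈ [4, 5, 6, 7, 8, 9, 10, 11, 12, 13, 14], ∀ g ∈ [1, 2, 4], ¬ (u ^ k + 1 = g * n ∨ u ^ k = g * n + 1) := by
      decide +kernel
    refine key n hn u ?_ k ?_ g ?_ h1
    · clear key h1 hle h hB
      interval_cases u <;> decide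
    · clear key h1 hle
      interval_cases k <;> decide
    · rcases hg with rfl | rfl | rfl <;> decide
  · have hd : (D.d : ℤ) ≤ 3 := by rcases D.hd with h | h <;> rw [h] <;> norm_num
    have hd0 : (0 : ℤ) < D.d := by exact_mod_cast D.d_pos
    have h4 : (5 : ℤ) ≤ D.q := by exact_mod_cast h5
    have hn := n_le (D := D)
    -- `d (u + 1) < q ^ 4 - 4 q ^ 3 - q ^ 2 + 1`
    have hu3 : 3 * (u + 1) < D.q ^ 3 := by
      by_contra hcon
      push Not at hcon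
      have h6 : 125 ≤ D.q ^ 3 := by
        calc 125 = 5 ^ 3 := by norm_num
          _ ≤ D.q ^ 3 := Nat.pow_le_pow_left h5 3
      obtain ⟨x, hx⟩ : ∃ x, D.q ^ 3 = x := ⟨_, rfl⟩
      have h7 : D.q ^ 6 = x ^ 2 := by rw [← hx, ← pow_mul]
      rw [h7, hx] at hn
      rw [hx] at hcon h6
      have h8 : x ≤ 4 * u := by omega
      have h9 : x ^ 4 ≤ 256 * u ^ 4 := by
        calc x ^ 4 ≤ (4 * u) ^ 4 := Nat.pow_le_pow_left h8 4
          _ = 256 * u ^ 4 := by ring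
      have h10 : x ^ 4 ≤ 256 * (4 * (x ^ 2 + x + 1) + 1) := by
        refine h9.trans (Nat.mul_le_mul_left _ (hle.trans ?_))
        omega
      nlinarith [Nat.mul_le_mul h6 h6, Nat.mul_le_mul (Nat.mul_le_mul h6 h6) (le_refl (x * x)), Nat.mul_le_mul h6 (le_refl x)]
    have hBd : |B| * D.d < D.q ^ 3 := by
      have h6 : |B| * D.d ≤ ((u : ℤ) + 1) * 3 := by nlinarith [abs_nonneg B]
      have h7 : (3 : ℤ) * (u + 1) < (D.q : ℤ) ^ 3 := by exact_mod_cast hu3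
      linarith
    have h6 : 5 * (D.q : ℤ) ^ 3 ≤ D.q ^ 4 := by
      rw [pow_succ (D.q : ℤ) 3, mul_comm]
      exact mul_le_mul_of_nonneg_left h4 (by positivity)
    have hg1 : (1 : ℤ) ≤ g := by rcases hg with h | h | h <;> rw [h] <;> norm_num
    have hg4 : (g : ℤ) ≤ 4 := by rcases hg with h | h | h <;> rw [h] <;> norm_num
    -- a sharper bound
    have hu4 : (D.d : ℤ) * (u + 1) < (D.q : ℤ) ^ 4 - 4 * D.q ^ 3 - D.q ^ 2 + 1 := by
      rcases Nat.lt_or_ge D.q 7 with h7 | h7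
      · have hsm := small D (by omega)
        simp only [List.mem_cons, List.not_mem_nil, or_false, Prod.mk.injEq] at hsm
        have hq5 : D.q = 5 ∧ D.d ≤ 3 ∧ D.n ≤ 15751 := by
          rcases hsm with ⟨h3, -, h4, h6⟩ | ⟨h3, -, h4, h6⟩ | ⟨h3, -, h4, h6⟩ | ⟨h3, -, h4, h6⟩ | ⟨h3, -, h4, h6⟩ |
            ⟨h3, -, h4, h6⟩ | ⟨h3, -, h4, h6⟩ | ⟨h3, -, h4, h6⟩ | ⟨h3, -, h4, h6⟩ | ⟨h3, -, h4, h6⟩ | ⟨h3, -, h4, h6⟩ |
            ⟨h3, -, h4, h6⟩ |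
            ⟨h3, -, h4, h6⟩ | ⟨h3, -, h4, h6⟩ <;> omega
        obtain ⟨h8, h9, h10⟩ := hq5
        rw [h8]
        have hu15 : u ≤ 16 := by
          by_contra hcon
          have : 17 ^ 4 ≤ u ^ 4 := Nat.pow_le_pow_left (by omega) 4
          omega
        have : (u : ℤ) ≤ 16 := by exact_mod_cast hu15
        have h9' : (D.d : ℤ) * (u + 1) ≤ 3 * (u + 1) := mul_le_mul_of_nonneg_right hd (by positivity)
        push_cast
        linarith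
      · have h8 : (7 : ℤ) ≤ D.q := by exact_mod_cast h7
        have h9 : (3 : ℤ) * (u + 1) < (D.q : ℤ) ^ 3 := by exact_mod_cast hu3
        have h10 : 7 * (D.q : ℤ) ^ 3 ≤ D.q ^ 4 := by
          rw [pow_succ (D.q : ℤ) 3, mul_comm]
          exact mul_le_mul_of_nonneg_left h8 (by positivity)
        have h11 : (D.q : ℤ) ^ 2 * 7 ≤ D.q ^ 3 := by
          rw [pow_succ (D.q : ℤ) 2]
          exact mul_le_mul_of_nonneg_left h8 (by positivity)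
        have h12 : (D.d : ℤ) * (u + 1) ≤ 3 * (u + 1) := mul_le_mul_of_nonneg_right hd (by positivity)
        have h13 : (0 : ℤ) ≤ (D.q : ℤ) ^ 2 := by positivity
        linarith
    have h1' : |(g : ℤ)| * D.q ^ 3 + |B| * D.d < D.m := by
      rw [abs_of_pos (by linarith : (0 : ℤ) < g), D.hm]
      have h9 : (g : ℤ) * (D.q : ℤ) ^ 3 ≤ 4 * D.q ^ 3 := mul_le_mul_of_nonneg_right hg4 (by positivity)
      have h10 : |B| * D.d ≤ D.d * ((u : ℤ) + 1) := by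
        rw [mul_comm]
        exact mul_le_mul_of_nonneg_left hB hd0.le
      linarith
    have h2 := D.kill h h1'
    have h3 : |(g : ℤ) * D.ε * (D.q : ℤ) ^ 3| = |B * (D.d : ℤ)| := by
      rw [eq_neg_of_add_eq_zero_left h2, abs_neg]
    rw [abs_mul, abs_mul, D.eps_abs, abs_mul, abs_of_pos (by linarith : (0 : ℤ) < g), mul_one, abs_of_pos hd0,
      abs_of_nonneg (show (0 : ℤ) ≤ (D.q : ℤ) ^ 3 by positivity)] at h3
    nlinarith [show (0 : ℤ) ≤ (D.q : ℤ) ^ 3 by positivity]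

/-- both classes of `u ^ (2 (k - 1)) - 1` for even `u` -/
theorem both {u k : ℕ} (hu : 2 ≤ u) (he : Even u) (hk : 4 ≤ k) (h1 : D.n = u ^ k + 1)
    (h2 : u ^ (2 * (k - 1)) - 1 ∣ D.e) : False := by
  have he0 : 0 < D.e := Nat.pos_of_ne_zero fun h => D.e_odd (h ▸ dvd_zero _)
  have h3 := Nat.le_of_dvd he0 h2
  have h4 : u ^ 2 * u ^ k ≤ D.e + 1 := by
    have h5 : u ^ (2 + k) ≤ u ^ (2 * (k - 1)) := Nat.pow_le_pow_right (by omega) (by omega)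
    rw [pow_add] at h5
    omega
  have h5 : 4 * (D.n - 1) ≤ D.e + 1 := by
    have h6 : 4 ≤ u ^ 2 := by nlinarith
    have h7 : D.n - 1 = u ^ k := by omega
    rw [h7]
    exact (Nat.mul_le_mul_right _ h6).trans h4
  rcases Nat.lt_or_ge D.q 4 with hq | hq
  · have hsm := small D (by omega)
    obtain ⟨n, hn'⟩ : ∃ n, D.n = n := ⟨_, rfl⟩
    rw [hn'] at hsm h1
    have hn : n ∈ [73, 19, 757, 703] := by
      simp only [List.mem_cons, List.not_mem_nil, or_false, Prod.mk.injEq] at hsm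
      rcases hsm with ⟨h3, -, -, h4⟩ | ⟨h3, -, -, h4⟩ | ⟨h3, -, -, h4⟩ | ⟨h3, -, -, h4⟩ | ⟨h3, -, -, h4⟩ |
        ⟨h3, -, -, h4⟩ | ⟨h3, -, -, h4⟩ | ⟨h3, -, -, h4⟩ | ⟨h3, -, -, h4⟩ | ⟨h3, -, -, h4⟩ | ⟨h3, -, -, h4⟩ |
        ⟨h3, -, -, h4⟩ |
        ⟨h3, -, -, h4⟩ | ⟨h3, -, -, h4⟩ <;> rw [h3] at hq <;> first | omega | (rw [h4]; decide)
    have h16 : 16 ∣ n - 1 := by
      rw [h1, Nat.add_sub_cancel]
      obtain ⟨v, hv⟩ := even_iff_two_dvd.1 he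
      have h9 : 2 ^ 4 ∣ u ^ 4 := pow_dvd_pow_of_dvd ⟨v, hv⟩ 4
      exact h9.trans (pow_dvd_pow u hk)
    have key : ∀ n ∈ [73, 19, 757, 703], ¬ 16 ∣ n - 1 := by decide
    exact key n hn h16
  · have h6 : (4 : ℤ) * (D.n - 1) ≤ D.e + 1 := by
      have := D.one_lt_n
      have h7 : (4 * (D.n - 1) : ℕ) ≤ D.e + 1 := h5
      have h8 : ((4 * (D.n - 1) : ℕ) : ℤ) ≤ ((D.e + 1 : ℕ) : ℤ) := by exact_mod_cast h7
      rw [Nat.cast_mul, Nat.cast_sub (by omega)] at h8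
      push_cast at h8
      exact h8
    have h7 : (3 : ℤ) * D.n ≥ (D.q : ℤ) ^ 6 - D.q ^ 3 + 1 := by
      have h8 := D.hn
      have hd : (D.d : ℤ) ≤ 3 := by rcases D.hd with h | h <;> rw [h] <;> norm_num
      have h9 : (D.d : ℤ) * D.n ≤ 3 * D.n := mul_le_mul_of_nonneg_right hd (by positivity)
      have h10 : (0 : ℤ) ≤ (D.q : ℤ) ^ 3 := by positivity
      rcases D.eps with h | h <;> rw [h] at h8 <;> linarith
    have h8 : (D.e : ℤ) ≤ (D.q : ℤ) ^ 6 + D.q ^ 5 - D.q ^ 3 + D.q + 1 := by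
      rw [D.he, D.hm]
      have h10 : (0 : ℤ) ≤ (D.q : ℤ) := by positivity
      rcases D.eps with h | h <;> rw [h]
      · nlinarith
      · nlinarith [mul_nonneg h10 (sq_nonneg ((D.q : ℤ) ^ 2 - 1))]
    have h9 : (4 : ℤ) ≤ D.q := by exact_mod_cast hq
    have h10 : 4 * (D.q : ℤ) ^ 5 ≤ D.q ^ 6 := by
      rw [pow_succ (D.q : ℤ) 5, mul_comm]
      exact mul_le_mul_of_nonneg_left h9 (by positivity)
    have h11 : (D.q : ℤ) ^ 3 * 16 ≤ D.q ^ 5 := by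
      have : (D.q : ℤ) ^ 5 = D.q ^ 3 * D.q ^ 2 := by ring
      rw [this]
      exact mul_le_mul_of_nonneg_left (by nlinarith) (by positivity)
    have h12 : (16 : ℤ) * D.q ≤ D.q ^ 3 := by
      have : (D.q : ℤ) ^ 3 = D.q ^ 2 * D.q := by ring
      rw [this]
      exact mul_le_mul_of_nonneg_right (by nlinarith) (by positivity)
    linarith

end num

section common

variable {D : Dat} {F : Type*} [Field F] [Finite F] {ι : Type} [Fintype ι] [DecidableEq ι]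
  {Q : QuadraticForm F (ι → F)} {k : ℕ} {ε₀ : ℤ}

theorem t_ne_two {t : ℕ} (ht : t.Prime) (htm : t ∣ D.m) : t ≠ 2 := by
  have := D.prime_m_ge ht htm
  omega

theorem t_char (hQ : Sg Q k ε₀) (hk : 4 ≤ k) (h : Sit D (POmega F ⇑Q)) {t : ℕ} (ht : t.Prime) (htm : t ∣ D.m) :
    ¬ t ∣ Nat.card F := by
  intro hd
  have := Fintype.ofFinite F
  refine h.not_adj_two_m htm (Cfsg.Agent.H182.Cent.adj_two_of_char hQ hk ht (t_ne_two ht htm) ?_)
  obtain ⟨c, hc⟩ := CharP.exists F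
  obtain ⟨f, hcp, hf⟩ := FiniteField.card F c
  rw [Nat.card_eq_fintype_card, hf] at hd
  have h3 := (Nat.prime_dvd_prime_iff_eq ht hcp).1 (ht.dvd_of_dvd_pow hd)
  rw [h3]
  exact CharP.cast_eq_zero F c

theorem t_small (hQ : Sg Q k ε₀) (hk : 4 ≤ k) (h : Sit D (POmega F ⇑Q)) {t j : ℕ} (ht : t.Prime) (htm : t ∣ D.m)
    (hj : 1 ≤ j) (hjk : j + 2 ≤ k) : ¬ t ∣ Nat.card F ^ (2 * j) - 1 := fun hd =>
  h.not_adj_two_m htm (Cfsg.Agent.H182.Cent.adj_two_of_dvd hQ hk hj hjk ht (t_ne_two ht htm) hd)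

/-- Lagrange -/
theorem t_red {X : ℕ} (hQ : Sg Q k ε₀) (hk : 4 ≤ k) (h : Sit D (POmega F ⇑Q))
    (hcard : Nat.card (POmega F ⇑Q) ∣ Nat.card F ^ (k * (k - 1)) * X *
      ∏ i ∈ Finset.range (k - 1), (Nat.card F ^ (2 * (i + 1)) - 1)) :
    D.m ∣ X * (Nat.card F ^ (2 * (k - 1)) - 1) := by
  have hfin : Finite (Cfsg.isometryGroup F ⇑Q) := inferInstance
  have h1 := h.m_dvd_card.trans hcard
  obtain ⟨j, rfl⟩ : ∃ j, k = j + 2 := ⟨k - 2, by omega⟩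
  rw [show j + 2 - 1 = j + 1 by omega, Finset.prod_range_succ] at h1
  rw [show j + 2 - 1 = j + 1 by omega]
  have h2 : D.m ∣ Nat.card F ^ ((j + 2) * (j + 1)) * ((∏ i ∈ Finset.range j, (Nat.card F ^ (2 * (i + 1)) - 1)) *
      (X * (Nat.card F ^ (2 * (j + 1)) - 1))) := by
    refine h1.trans (dvd_of_eq ?_)
    ring
  have h3 := dvd_of_primes h2 fun r hr hrn hd => t_char hQ hk h hr hrn (hr.dvd_of_dvd_pow hd)
  exact dvd_of_primes h3 fun r hr hrn => not_dvd_prod (fun i hi => by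
    rw [Finset.mem_range] at hi
    exact t_small hQ hk h hr hrn (j := i + 1) (by omega) (by omega)) hr

theorem sq_fac (u j : ℕ) : u ^ (2 * j) - 1 = (u ^ j + 1) * (u ^ j - 1) := by
  have := Nat.sq_sub_sq (u ^ j) 1
  rwa [one_pow, ← pow_mul, mul_comm j 2] at this

/-- `t ∤ u ^ j - 1` for even `j` -/
theorem t_even (hQ : Sg Q k ε₀) (hk : 4 ≤ k) (h : Sit D (POmega F ⇑Q)) {t j : ℕ} (ht : t.Prime) (htm : t ∣ D.m)
    (hj : Even j) (hj1 : 1 ≤ j) (hjk : j ≤ k) : ¬ t ∣ Nat.card F ^ j - 1 := by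
  obtain ⟨i, rfl⟩ := hj
  rw [← two_mul]
  exact t_small hQ hk h ht htm (by omega) (by omega)

/-- an order -/
theorem exists_div (hQ : Sg Q k ε₀) (hk : 4 ≤ k) (h : Sit D (POmega F ⇑Q)) {N : ℕ} (hN : Elt F k ε₀ N) {s : ℕ}
    (hs : s.Prime) (hsn : s ∣ D.n) (hsN : s ∣ N) : N ∣ 4 * D.n := by
  have hfin : Finite (Cfsg.isometryGroup F ⇑Q) := inferInstance
  obtain ⟨x, hx⟩ := Cfsg.Agent.H156.TDRow.exists_of_elt hQ (by omega) hN
  have hs2 : s ≠ 2 := fun h => D.n_odd (h ▸ hsn)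
  have h3 : s ∣ N / N.gcd 4 := by
    have h4 : s ∣ N / N.gcd 4 * N.gcd 4 := by
      rw [Nat.div_mul_cancel (Nat.gcd_dvd_left _ _)]
      exact hsN
    rcases hs.dvd_mul.1 h4 with h5 | h5
    · exact h5
    · exfalso
      have h6 : s ∣ 2 ^ 2 := h5.trans (Nat.gcd_dvd_right _ _)
      exact hs2 ((Nat.prime_dvd_prime_iff_eq hs Nat.prime_two).1 (hs.dvd_of_dvd_pow h6))
  have h4 : N / N.gcd 4 ∣ D.n := hx.trans (h.dvd_n ⟨x, rfl⟩ hs (h3.trans hx) hsn)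
  have h5 := Nat.mul_dvd_mul (Nat.gcd_dvd_right N 4) h4
  rwa [mul_comm (N.gcd 4), Nat.div_mul_cancel (Nat.gcd_dvd_left _ _)] at h5

end common

end Cfsg.Agent.R2.Spec.X1.E6.I9
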